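import Groth.Prelude.Def_ega3
import Mathlib.Algebra.Homology.ShortComplex.ModuleCat

/-!
# Homology classes, elementwise
-/

universe u

open CategoryTheory CategoryTheory.Limits

namespace Groth.Agent.FlatComplex

variable {R : Type u} [Ring R]

section Cls

variable {S S' : ShortComplex (ModuleCat.{u} R)}

/-- The class of a cycle. -/
noncomputable def cls (S : ShortComplex (ModuleCat.{u} R)) (x : S.X₂) (hx : S.g x = 0) : S.homology :=
  S.homologyπ (S.moduleCatCyclesIso.inv ⟨x, hx⟩)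

lemma iCycles_cycle (x : S.X₂) (hx : S.g x = 0) :
    S.iCycles (S.moduleCatCyclesIso.inv ⟨x, hx⟩) = x :=
  congrArg (fun f => f.hom (⟨x, hx⟩ : LinearMap.ker S.g.hom)) S.moduleCatCyclesIso_inv_iCycles

lemma cls_surjective (h : S.homology) : ∃ x hx, cls S x hx = h := by
  obtain ⟨c, rfl⟩ := (ModuleCat.epi_iff_surjective S.homologyπ).mp inferInstance h
  refine ⟨(S.moduleCatCyclesIso.hom c).1, (S.moduleCatCyclesIso.hom c).2, ?_⟩
  exact congrArg S.homologyπ (congrArg (fun f => f.hom c) S.moduleCatCyclesIso.hom_inv_id)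

lemma cls_eq_cls_iff (x y : S.X₂) (hx : S.g x = 0) (hy : S.g y = 0) :
    cls S x hx = cls S y hy ↔ ∃ w, x - y = S.f w := by
  have key : ∀ (z : S.X₂) (hz : S.g z = 0),
      cls S z hz = S.moduleCatHomologyIso.inv (S.moduleCatLeftHomologyData.π ⟨z, hz⟩) :=
    fun z hz => congrArg (fun f => f.hom (⟨z, hz⟩ : LinearMap.ker S.g.hom))
      S.moduleCatCyclesIso_inv_π
  rw [key, key]
  refine ((ModuleCat.mono_iff_injective S.moduleCatHomologyIso.inv).mp inferInstance).eq_iff.trans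
    ((Submodule.Quotient.eq _).trans ?_)
  exact ⟨fun ⟨w, hw⟩ => ⟨w, (congrArg Subtype.val hw).symm⟩,
    fun ⟨w, hw⟩ => ⟨w, Subtype.ext hw.symm⟩⟩

lemma homologyMap_cls (φ : S ⟶ S') (x : S.X₂) (hx : S.g x = 0) :
    ∃ hx', ShortComplex.homologyMap φ (cls S x hx) = cls S' (φ.τ₂ x) hx' := by
  have hx' : S'.g (φ.τ₂ x) = 0 := by
    rw [← ModuleCat.comp_apply, φ.comm₂₃, ModuleCat.comp_apply, hx, map_zero]
  refine ⟨hx', ?_⟩
  have h1 : ShortComplex.homologyMap φ (cls S x hx) =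
      S'.homologyπ (ShortComplex.cyclesMap φ (S.moduleCatCyclesIso.inv ⟨x, hx⟩)) :=
    congrArg (fun f => f.hom (S.moduleCatCyclesIso.inv ⟨x, hx⟩))
      (ShortComplex.homologyπ_naturality φ)
  rw [h1, cls]
  refine congrArg S'.homologyπ ((ModuleCat.mono_iff_injective S'.iCycles).mp inferInstance ?_)
  rw [iCycles_cycle, ← ModuleCat.comp_apply, ShortComplex.cyclesMap_i, ModuleCat.comp_apply,
    iCycles_cycle]

lemma homologyMap_surjective_iff (φ : S ⟶ S') :
    Function.Surjective (ShortComplex.homologyMap φ) ↔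
      ∀ z, S'.g z = 0 → ∃ x, S.g x = 0 ∧ ∃ w, φ.τ₂ x - z = S'.f w := by
  constructor
  · intro h z hz
    obtain ⟨a, ha⟩ := h (cls S' z hz)
    obtain ⟨x, hx, rfl⟩ := cls_surjective a
    obtain ⟨hx', e⟩ := homologyMap_cls φ x hx
    exact ⟨x, hx, (cls_eq_cls_iff _ _ hx' hz).mp (e.symm.trans ha)⟩
  · intro h b
    obtain ⟨z, hz, rfl⟩ := cls_surjective b
    obtain ⟨x, hx, hw⟩ := h z hz
    obtain ⟨hx', e⟩ := homologyMap_cls φ x hx
    exact ⟨cls S x hx, e.trans ((cls_eq_cls_iff _ _ hx' hz).mpr hw)⟩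

lemma homologyMap_injective_iff (φ : S ⟶ S') :
    Function.Injective (ShortComplex.homologyMap φ) ↔
      ∀ x, S.g x = 0 → (∃ w, φ.τ₂ x = S'.f w) → ∃ w, x = S.f w := by
  constructor
  · intro h x hx ⟨w, hw⟩
    obtain ⟨hx', e⟩ := homologyMap_cls φ x hx
    have h0 : S.g 0 = 0 := map_zero _
    obtain ⟨h0', e0⟩ := homologyMap_cls φ 0 h0
    have : cls S x hx = cls S 0 h0 := by
      apply h
      rw [e, e0]
      exact (cls_eq_cls_iff _ _ hx' h0').mpr ⟨w, by rw [map_zero, sub_zero, hw]⟩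
    obtain ⟨v, hv⟩ := (cls_eq_cls_iff _ _ hx h0).mp this
    exact ⟨v, by rw [← hv, sub_zero]⟩
  · intro h a b hab
    obtain ⟨x, hx, rfl⟩ := cls_surjective a
    obtain ⟨y, hy, rfl⟩ := cls_surjective b
    obtain ⟨hx', ex⟩ := homologyMap_cls φ x hx
    obtain ⟨hy', ey⟩ := homologyMap_cls φ y hy
    rw [ex, ey, cls_eq_cls_iff] at hab
    refine (cls_eq_cls_iff _ _ hx hy).mpr (h _ (by rw [map_sub, hx, hy, sub_zero]) ?_)
    obtain ⟨w, hw⟩ := hab
    exact ⟨w, by rw [map_sub, hw]⟩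

end Cls

section TFun

variable {A : Type u} [CommRing A] (P : ChainComplex (ModuleCat.{u} A) ℤ)

/-- A differential tensored with a module. -/
noncomputable abbrev dT (M : Type u) [AddCommGroup M] [Module A M] (i j : ℤ) :
    TensorProduct A (P.X i) M →ₗ[A] TensorProduct A (P.X j) M :=
  (P.d i j).hom.rTensor M

lemma map_surjective_iff' {i j k : ℤ} (hi : (ComplexShape.down ℤ).prev j = i)
    (hk : (ComplexShape.down ℤ).next j = k) {M N : ModuleCat.{u} A} (g : M ⟶ N) :
    Function.Surjective ((CohIII.TFun P j).map g) ↔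
      ∀ z, dT P N j k z = 0 →
        ∃ x, dT P M j k x = 0 ∧ ∃ w, g.hom.lTensor (P.X j) x - z = dT P N i j w := by
  subst hi hk
  exact homologyMap_surjective_iff _

lemma map_injective_iff' {i j k : ℤ} (hi : (ComplexShape.down ℤ).prev j = i)
    (hk : (ComplexShape.down ℤ).next j = k) {M N : ModuleCat.{u} A} (g : M ⟶ N) :
    Function.Injective ((CohIII.TFun P j).map g) ↔
      ∀ x, dT P M j k x = 0 → (∃ w, g.hom.lTensor (P.X j) x = dT P N i j w) →
        ∃ w, x = dT P M i j w := by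
  subst hi hk
  exact homologyMap_injective_iff _

lemma map_surjective_iff {i j k : ℤ} (hi : j + 1 = i) (hk : k + 1 = j) {M N : ModuleCat.{u} A}
    (g : M ⟶ N) : Function.Surjective ((CohIII.TFun P j).map g) ↔
      ∀ z, dT P N j k z = 0 →
        ∃ x, dT P M j k x = 0 ∧ ∃ w, g.hom.lTensor (P.X j) x - z = dT P N i j w :=
  map_surjective_iff' P (ComplexShape.prev_eq' _ hi) (ComplexShape.next_eq' _ hk) g

lemma map_injective_iff {i j k : ℤ} (hi : j + 1 = i) (hk : k + 1 = j) {M N : ModuleCat.{u} A}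
    (g : M ⟶ N) : Function.Injective ((CohIII.TFun P j).map g) ↔
      ∀ x, dT P M j k x = 0 → (∃ w, g.hom.lTensor (P.X j) x = dT P N i j w) →
        ∃ w, x = dT P M i j w :=
  map_injective_iff' P (ComplexShape.prev_eq' _ hi) (ComplexShape.next_eq' _ hk) g

lemma preservesMono_iff (p : ℤ) : (CohIII.TFun P p).PreservesMonomorphisms ↔
    ∀ ⦃M N : ModuleCat.{u} A⦄ (g : M ⟶ N), Function.Injective g →
      Function.Injective ((CohIII.TFun P p).map g) := by
  refine ⟨fun h M N g hg => ?_, fun h => ⟨fun g hg => ?_⟩⟩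
  · have := (ModuleCat.mono_iff_injective g).mpr hg
    exact (ModuleCat.mono_iff_injective _).mp inferInstance
  · exact (ModuleCat.mono_iff_injective _).mpr (h g ((ModuleCat.mono_iff_injective g).mp hg))

lemma preservesEpi_iff (p : ℤ) : (CohIII.TFun P p).PreservesEpimorphisms ↔
    ∀ ⦃M N : ModuleCat.{u} A⦄ (g : M ⟶ N), Function.Surjective g →
      Function.Surjective ((CohIII.TFun P p).map g) := by
  refine ⟨fun h M N g hg => ?_, fun h => ⟨fun g hg => ?_⟩⟩
  · have := (ModuleCat.epi_iff_surjective g).mpr hg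
    exact (ModuleCat.epi_iff_surjective _).mp inferInstance
  · exact (ModuleCat.epi_iff_surjective _).mpr (h g ((ModuleCat.epi_iff_surjective g).mp hg))

/-- The cokernel of `d : P_{i} ⟶ P_j`. -/
abbrev Cok (i j : ℤ) : Type u := P.X j ⧸ LinearMap.range (P.d i j).hom

lemma nonempty_opcycles_iso {i j : ℤ} (hi : j + 1 = i) :
    Nonempty (P.opcycles j ≅ ModuleCat.of A (Cok P i j)) := by
  obtain rfl : (ComplexShape.down ℤ).prev j = i := ComplexShape.prev_eq' _ hi
  exact ⟨(P.sc j).moduleCatOpcyclesIso⟩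

lemma d_comp_d_apply (i j k : ℤ) (x : P.X i) : P.d j k (P.d i j x) = 0 := by
  rw [← ModuleCat.comp_apply, P.d_comp_d]
  rfl

lemma dT_comp_dT (M : Type u) [AddCommGroup M] [Module A M] (i j k : ℤ)
    (x : TensorProduct A (P.X i) M) : dT P M j k (dT P M i j x) = 0 := by
  rw [← LinearMap.comp_apply, ← LinearMap.rTensor_comp]
  rw [show (P.d j k).hom ∘ₗ (P.d i j).hom = 0 from LinearMap.ext fun y => d_comp_d_apply P i j k y]
  simp

end TFun

end Groth.Agent.FlatComplex
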