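import Groth.Agent.FlatComplex.Criteria

/-!
# The exactness criterion on the residue field
-/

universe u

open CategoryTheory CategoryTheory.Limits

namespace Groth.Agent.FlatComplex

variable {A : Type u} [CommRing A] (P : ChainComplex (ModuleCat.{u} A) ℤ)

lemma surjective_algebraLinearMap_residueField [IsLocalRing A] :
    Function.Surjective (Algebra.linearMap A (IsLocalRing.ResidueField A)) :=
  IsLocalRing.residue_surjective

variable [IsLocalRing A] (hP : ∀ i, Module.Finite A (P.X i) ∧ Module.Flat A (P.X i))
include hP

/-- Right exactness can be tested on the residue field. -/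
theorem preservesEpi_iff_surjective_residueField (p : ℤ) :
    (CohIII.TFun P p).PreservesEpimorphisms ↔
      Function.Surjective ((CohIII.TFun P p).map
        (ModuleCat.ofHom (Algebra.linearMap A (IsLocalRing.ResidueField A)))) := by
  refine ⟨fun h => (preservesEpi_iff P p).mp h _ surjective_algebraLinearMap_residueField,
    fun h => ?_⟩
  rw [preservesEpi_iff_flat P (sub_add_cancel p 1) (hP _).2 (hP _).2]
  have := free_of_surjective_residueField P (sub_add_cancel p 1) (hP _).1 (hP _).2 (hP _).1 h
  infer_instance

omit [IsLocalRing A] hP in
theorem preservesEpi_iff_preservesMono (hP' : ∀ i, Module.Flat A (P.X i)) {p q : ℤ}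
    (hqp : q + 1 = p) :
    (CohIII.TFun P p).PreservesEpimorphisms ↔ (CohIII.TFun P q).PreservesMonomorphisms :=
  (preservesEpi_iff_flat P hqp (hP' _) (hP' _)).trans (preservesMono_iff_flat P hqp (hP' _)).symm

end Groth.Agent.FlatComplex
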