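import Groth.Agent.FlatComplex.Criteria
import Mathlib.RingTheory.Flat.Equalizer
import Mathlib.RingTheory.Flat.Localization

/-!
# `H_p(P ⊗ M)` inside `coker ⊗ M`
-/

universe u

open CategoryTheory CategoryTheory.Limits TensorProduct

namespace Groth.Agent.FlatComplex

variable {A : Type u} [CommRing A] (P : ChainComplex (ModuleCat.{u} A) ℤ)

/-- The map induced by a differential on the cokernel of the previous one. -/
noncomputable abbrev dbar (i j k : ℤ) : Cok P i j →ₗ[A] P.X k :=
  (LinearMap.range (P.d i j).hom).liftQ (P.d j k).hom (by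
    rintro _ ⟨x, rfl⟩
    exact d_comp_d_apply P i j k x)

lemma dbar_comp_mkQ (i j k : ℤ) :
    dbar P i j k ∘ₗ (LinearMap.range (P.d i j).hom).mkQ = (P.d j k).hom :=
  Submodule.liftQ_mkQ _ _ _

lemma exists_toCok' {i j k : ℤ} (hi : (ComplexShape.down ℤ).prev j = i)
    (hk : (ComplexShape.down ℤ).next j = k) :
    ∃ ι : ∀ M : ModuleCat.{u} A, (CohIII.TFun P j).obj M →ₗ[A] Cok P i j ⊗[A] M,
      (∀ M, Function.Injective (ι M)) ∧
      (∀ M, LinearMap.range (ι M) = LinearMap.ker ((dbar P i j k).rTensor M)) ∧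
      ∀ ⦃M N : ModuleCat.{u} A⦄ (g : M ⟶ N) (h : (CohIII.TFun P j).obj M),
        ι N ((CohIII.TFun P j).map g h) = g.hom.lTensor (Cok P i j) (ι M h) := by
  subst hi hk
  let q := (LinearMap.range (P.d ((ComplexShape.down ℤ).prev j) j).hom).mkQ
  let ι : ∀ M : ModuleCat.{u} A, (CohIII.TFun P j).obj M →ₗ[A]
      Cok P ((ComplexShape.down ℤ).prev j) j ⊗[A] M := fun M =>
    (LinearMap.range ((CohIII.tensorObj P M).sc j).moduleCatToCycles).liftQ
        (q.rTensor M ∘ₗ (LinearMap.ker ((CohIII.tensorObj P M).sc j).g.hom).subtype) (by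
          rintro _ ⟨w, rfl⟩
          exact (mem_range_dT_iff P M _ j _).mp ⟨w, rfl⟩) ∘ₗ
      ((CohIII.tensorObj P M).sc j).moduleCatHomologyIso.hom.hom
  have hι : ∀ M x hx, ι M (cls ((CohIII.tensorObj P M).sc j) x hx) = q.rTensor M x := by
    intro M x hx
    let S := (CohIII.tensorObj P M).sc j
    have h1 : cls S x hx = S.moduleCatHomologyIso.inv (S.moduleCatLeftHomologyData.π ⟨x, hx⟩) :=
      congrArg (fun f => f.hom (⟨x, hx⟩ : LinearMap.ker S.g.hom)) S.moduleCatCyclesIso_inv_π
    change ι M (cls S x hx) = _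
    rw [h1]
    simp only [ι, LinearMap.comp_apply]
    erw [← ModuleCat.comp_apply, Iso.inv_hom_id]
    rfl
  refine ⟨ι, fun M => ?_, fun M => ?_, fun M N g h => ?_⟩
  · refine (injective_iff_map_eq_zero _).mpr fun h hh => ?_
    obtain ⟨x, hx, rfl⟩ := cls_surjective h
    rw [hι, ← mem_range_dT_iff] at hh
    obtain ⟨w, rfl⟩ := hh
    have h0 : ((CohIII.tensorObj P M).sc j).g 0 = 0 := map_zero _
    refine ((cls_eq_cls_iff _ 0 hx h0).mpr ⟨w, sub_zero _⟩).trans ?_
    obtain ⟨hx', e⟩ := homologyMap_cls (0 : (CohIII.tensorObj P M).sc j ⟶ (CohIII.tensorObj P M).sc j)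
      0 h0
    rw [ShortComplex.homologyMap_zero] at e
    exact e.symm
  · ext c
    constructor
    · rintro ⟨h, rfl⟩
      obtain ⟨x, hx, rfl⟩ := cls_surjective h
      rw [LinearMap.mem_ker, hι, ← LinearMap.comp_apply, ← LinearMap.rTensor_comp, dbar_comp_mkQ]
      exact hx
    · intro hc
      obtain ⟨x, rfl⟩ := LinearMap.rTensor_surjective M (Submodule.mkQ_surjective _) c
      rw [LinearMap.mem_ker, ← LinearMap.comp_apply, ← LinearMap.rTensor_comp, dbar_comp_mkQ] at hc
      exact ⟨cls _ x hc, hι M x hc⟩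
  · obtain ⟨x, hx, rfl⟩ := cls_surjective h
    obtain ⟨hx', e⟩ := homologyMap_cls ((HomologicalComplex.shortComplexFunctor (ModuleCat.{u} A)
      (ComplexShape.down ℤ) j).map (CohIII.tensorMap P g)) x hx
    refine ((congrArg (ι N) e).trans (hι N _ hx')).trans ?_
    rw [hι]
    change q.rTensor N (g.hom.lTensor (P.X j) x) = _
    rw [← LinearMap.comp_apply, ← LinearMap.comp_apply, LinearMap.rTensor_comp_lTensor,
      LinearMap.lTensor_comp_rTensor]

/-- `T_j(M)` is the kernel of `dbar ⊗ M`, naturally. -/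
theorem exists_toCok {i j k : ℤ} (hi : j + 1 = i) (hk : k + 1 = j) :
    ∃ ι : ∀ M : ModuleCat.{u} A, (CohIII.TFun P j).obj M →ₗ[A] Cok P i j ⊗[A] M,
      (∀ M, Function.Injective (ι M)) ∧
      (∀ M, LinearMap.range (ι M) = LinearMap.ker ((dbar P i j k).rTensor M)) ∧
      ∀ ⦃M N : ModuleCat.{u} A⦄ (g : M ⟶ N) (h : (CohIII.TFun P j).obj M),
        ι N ((CohIII.TFun P j).map g h) = g.hom.lTensor (Cok P i j) (ι M h) :=
  exists_toCok' P (ComplexShape.prev_eq' _ hi) (ComplexShape.next_eq' _ hk)

/-- `T_j(A)` is the kernel of `dbar`. -/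
theorem nonempty_T_self_equiv {i j k : ℤ} (hi : j + 1 = i) (hk : k + 1 = j) :
    Nonempty ((CohIII.TFun P j).obj (ModuleCat.of A A) ≃ₗ[A] LinearMap.ker (dbar P i j k)) := by
  obtain ⟨ι, hinj, hrange, -⟩ := exists_toCok P hi hk
  let e : (CohIII.TFun P j).obj (ModuleCat.of A A) ≃ₗ[A]
      LinearMap.ker ((dbar P i j k).rTensor A) :=
    (LinearEquiv.ofInjective (ι (ModuleCat.of A A)) (hinj _)).trans
      (LinearEquiv.ofEq _ _ (hrange (ModuleCat.of A A)))
  refine ⟨LinearEquiv.trans (σ₁₂ := RingHom.id A) (σ₂₁ := RingHom.id A) e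
    (LinearEquiv.ofSubmodules (TensorProduct.rid A (Cok P i j)) _ _ ?_)⟩
  ext c
  constructor
  · rintro ⟨z, hz, rfl⟩
    obtain ⟨c, rfl⟩ : ∃ c, c ⊗ₜ[A] (1 : A) = z :=
      ⟨TensorProduct.rid A _ z, (TensorProduct.rid A _).symm_apply_apply z⟩
    have := congrArg (TensorProduct.rid A (P.X k)) hz
    rw [LinearMap.rTensor_tmul, TensorProduct.rid_tmul, one_smul, map_zero] at this
    simpa using! this
  · intro hc
    refine ⟨c ⊗ₜ[A] (1 : A), ?_, by simp⟩
    rw [SetLike.mem_coe, LinearMap.mem_ker, LinearMap.rTensor_tmul, LinearMap.mem_ker.mp hc,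
      zero_tmul]

lemma range_dbar (i j k : ℤ) :
    LinearMap.range (dbar P i j k) = LinearMap.range (P.d j k).hom :=
  Submodule.range_liftQ _ _ _

lemma flat_range {j k : ℤ} (hk : Module.Flat A (P.X k)) (hC : Module.Flat A (Cok P j k)) :
    Module.Flat A (LinearMap.range (P.d j k).hom) := by
  rw [Module.Flat.iff_lTensor_preserves_injective_linearMap]
  intro M N _ _ _ _ f hf
  have hM := LinearMap.lTensor_injective_of_exact_of_flat _ (Submodule.mkQ_surjective _)
    (LinearMap.range (P.d j k).hom).subtype (Submodule.injective_subtype _)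
    (LinearMap.exact_subtype_mkQ _) M
  refine (injective_iff_map_eq_zero _).mpr fun z hz => ?_
  rw [← LinearEquiv.map_eq_zero_iff (TensorProduct.comm A _ M)]
  refine (injective_iff_map_eq_zero _).mp hM _ ?_
  refine (injective_iff_map_eq_zero _).mp
    (Module.Flat.rTensor_preserves_injective_linearMap (M := P.X k) f hf) _ ?_
  rw [← LinearMap.comp_apply, LinearMap.rTensor_comp_lTensor, ← LinearMap.lTensor_comp_rTensor,
    LinearMap.comp_apply]
  have : f.rTensor (LinearMap.range (P.d j k).hom) (TensorProduct.comm A _ M z) = 0 := by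
    rw [← LinearMap.comm_comp_lTensor_comp_comm_eq, LinearMap.comp_apply, LinearMap.comp_apply]
    simp only [LinearEquiv.coe_coe, TensorProduct.comm_comm, hz, map_zero]
  rw [this, map_zero]

variable {P} in
/-- When `T_j` is right exact, `ker dbar ⊗ M` computes `T_j(M)`. -/
theorem rTensor_kerDbar {i j k : ℤ} (hk : Module.Flat A (P.X k)) (hC : Module.Flat A (Cok P j k))
    (M : Type u) [AddCommGroup M] [Module A M] :
    Function.Injective ((LinearMap.ker (dbar P i j k)).subtype.rTensor M) ∧
      LinearMap.range ((LinearMap.ker (dbar P i j k)).subtype.rTensor M) =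
        LinearMap.ker ((dbar P i j k).rTensor M) := by
  have hI : Module.Flat A (LinearMap.range (dbar P i j k)) := by
    rw [range_dbar]; exact flat_range P hk hC
  have hinjI : Function.Injective ((LinearMap.range (dbar P i j k)).subtype.rTensor M) := by
    rw [range_dbar, ← LinearMap.lTensor_inj_iff_rTensor_inj]
    exact LinearMap.lTensor_injective_of_exact_of_flat _ (Submodule.mkQ_surjective _) _
      (Submodule.injective_subtype _) (LinearMap.exact_subtype_mkQ _) M
  refine ⟨(LinearMap.lTensor_inj_iff_rTensor_inj _ _).mp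
    (LinearMap.lTensor_injective_of_exact_of_flat _
      (dbar P i j k).surjective_rangeRestrict _ (Submodule.injective_subtype _)
      (fun c => by
        rw [Submodule.coe_subtype, Subtype.range_coe]
        exact (Subtype.ext_iff : _)) M), ?_⟩
  have hex : Function.Exact ((LinearMap.ker (dbar P i j k)).subtype.rTensor M)
      ((dbar P i j k).rangeRestrict.rTensor M) :=
    rTensor_exact M (fun c => by
      rw [Submodule.coe_subtype, Subtype.range_coe]
      exact (Subtype.ext_iff : _)) (dbar P i j k).surjective_rangeRestrict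
  rw [← LinearMap.exact_iff.mp hex]
  ext c
  rw [LinearMap.mem_ker, LinearMap.mem_ker,
    show (dbar P i j k).rTensor M c = (LinearMap.range (dbar P i j k)).subtype.rTensor M
      ((dbar P i j k).rangeRestrict.rTensor M c) by
      rw [← LinearMap.comp_apply, ← LinearMap.rTensor_comp]
      rfl]
  exact ⟨fun h => by rw [h, map_zero], fun h => hinjI (h.trans (map_zero _).symm)⟩

/-- An extension of flat modules: the middle is flat iff the kernel is. -/
theorem flat_ker_iff {E F : Type u} [AddCommGroup E] [Module A E] [AddCommGroup F] [Module A F]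
    (f : E →ₗ[A] F) (hf : Function.Surjective f) [Module.Flat A F] :
    Module.Flat A (LinearMap.ker f) ↔ Module.Flat A E := by
  have key : ∀ (M : Type u) [AddCommGroup M] [Module A M],
      Function.Injective ((LinearMap.ker f).subtype.rTensor M) := fun M _ _ =>
    (LinearMap.lTensor_inj_iff_rTensor_inj _ _).mp (LinearMap.lTensor_injective_of_exact_of_flat f hf
      _ (Submodule.injective_subtype _) (LinearMap.exact_subtype_ker_map f) M)
  rw [Module.Flat.iff_lTensor_preserves_injective_linearMap,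
    Module.Flat.iff_lTensor_preserves_injective_linearMap]
  constructor
  · intro h M N _ _ _ _ g hg
    refine (injective_iff_map_eq_zero _).mpr fun c hc => ?_
    have h0 : f.rTensor M c = 0 := by
      refine (injective_iff_map_eq_zero _).mp
        (Module.Flat.lTensor_preserves_injective_linearMap (M := F) g hg) _ ?_
      rw [← LinearMap.comp_apply, LinearMap.lTensor_comp_rTensor, ← LinearMap.rTensor_comp_lTensor,
        LinearMap.comp_apply, hc, map_zero]
    obtain ⟨d, rfl⟩ := (rTensor_exact M (LinearMap.exact_subtype_ker_map f) hf c).mp h0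
    rw [← LinearMap.comp_apply, LinearMap.lTensor_comp_rTensor, ← LinearMap.rTensor_comp_lTensor,
      LinearMap.comp_apply] at hc
    rw [(injective_iff_map_eq_zero _).mp (h g hg) d ((injective_iff_map_eq_zero _).mp (key N) _ hc),
      map_zero]
  · intro h M N _ _ _ _ g hg
    refine (injective_iff_map_eq_zero _).mpr fun d hd => ?_
    refine (injective_iff_map_eq_zero _).mp (key M) d ((injective_iff_map_eq_zero _).mp (h g hg) _ ?_)
    rw [← LinearMap.comp_apply, LinearMap.lTensor_comp_rTensor, ← LinearMap.rTensor_comp_lTensor,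
      LinearMap.comp_apply, hd, map_zero]

/-- If `T_j` is right exact, it is left exact iff `T_j(A)` is flat. -/
theorem preservesMono_iff_flat_self (hP : ∀ i, Module.Flat A (P.X i)) {j : ℤ}
    (h : (CohIII.TFun P j).PreservesEpimorphisms) :
    (CohIII.TFun P j).PreservesMonomorphisms ↔
      Module.Flat A ((CohIII.TFun P j).obj (ModuleCat.of A A)) := by
  rw [preservesEpi_iff_flat P (sub_add_cancel j 1) (hP _) (hP _)] at h
  rw [preservesMono_iff_flat P (rfl : j + 1 = j + 1) (hP _)]
  obtain ⟨e⟩ := nonempty_T_self_equiv P (rfl : j + 1 = j + 1) (sub_add_cancel j 1)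
  rw [Module.Flat.equiv_iff e]
  have hI : Module.Flat A (LinearMap.range (dbar P (j + 1) j (j - 1))) := by
    rw [range_dbar]; exact flat_range P (hP _) h
  rw [← flat_ker_iff _ (dbar P (j + 1) j (j - 1)).surjective_rangeRestrict,
    LinearMap.ker_rangeRestrict]

end Groth.Agent.FlatComplex
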