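import Groth.Agent.FlatComplex.Rank
import Groth.Agent.FlatComplex.Homology
import Mathlib.RingTheory.Flat.FaithfullyFlat.Basic
import Mathlib.RingTheory.Flat.Stability

/-!
# Base change of the flatness criteria
-/

universe u

open CategoryTheory CategoryTheory.Limits TensorProduct

namespace Groth.Agent.FlatComplex

variable {A : Type u} [CommRing A] (P : ChainComplex (ModuleCat.{u} A) ℤ)

/-- Cokernels commute with base change. -/
lemma nonempty_cok_bcCx (B : Type u) [CommRing B] [inst : Algebra A B] (φ : A →+* B)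
    (hφ : algebraMap A B = φ) (i j : ℤ) :
    Nonempty (Cok (CohIII.bcCx φ P) i j ≃ₗ[B] B ⊗[A] Cok P i j) := by
  obtain rfl : inst = φ.toAlgebra := Algebra.algebra_ext _ _ fun a => by rw [hφ]; rfl
  let _ : Algebra A B := φ.toAlgebra
  obtain ⟨e, hcomm⟩ := exists_bcEquiv P B φ
  have hex := lTensor_exact B (LinearMap.exact_map_mkQ_range (P.d i j).hom)
    (Submodule.mkQ_surjective _)
  have hker : LinearMap.range ((P.d i j).hom.baseChange B) =
      LinearMap.ker ((LinearMap.range (P.d i j).hom).mkQ.baseChange B) := by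
    ext z
    exact ((hex z).symm : _)
  have hsurj : Function.Surjective ((LinearMap.range (P.d i j).hom).mkQ.baseChange B) :=
    LinearMap.lTensor_surjective B (Submodule.mkQ_surjective _)
  have hrange : (LinearMap.range ((P.d i j).hom.baseChange B)).map
      ((e j : (B ⊗[A] P.X j) →ₗ[B] (CohIII.bcCx φ P).X j)) =
      LinearMap.range ((CohIII.bcCx φ P).d i j).hom := by
    ext z
    constructor
    · rintro ⟨_, ⟨w, rfl⟩, rfl⟩
      exact ⟨e i w, hcomm i j w⟩
    · rintro ⟨w, rfl⟩
      obtain ⟨w, rfl⟩ := (e i).surjective w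
      exact ⟨_, ⟨w, rfl⟩, (hcomm i j w).symm⟩
  exact ⟨LinearEquiv.trans (σ₁₂ := RingHom.id B) (σ₂₁ := RingHom.id B)
    (Submodule.Quotient.equiv _ _ (e j) hrange).symm
    (LinearEquiv.trans (σ₁₂ := RingHom.id B) (σ₂₁ := RingHom.id B) (Submodule.quotEquivOfEq _ _ hker)
      (LinearMap.quotKerEquivOfSurjective _ hsurj))⟩

lemma flat_bcCx_X (hP : ∀ i, Module.Flat A (P.X i)) (B : Type u) [CommRing B] [inst : Algebra A B]
    (φ : A →+* B) (hφ : algebraMap A B = φ) (i : ℤ) : Module.Flat B ((CohIII.bcCx φ P).X i) := by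
  obtain rfl : inst = φ.toAlgebra := Algebra.algebra_ext _ _ fun a => by rw [hφ]; rfl
  let _ : Algebra A B := φ.toAlgebra
  obtain ⟨e, -⟩ := exists_bcEquiv P B φ
  have := hP i
  exact Module.Flat.of_linearEquiv (e i).symm

variable (hP : ∀ i, Module.Flat A (P.X i)) (B : Type u) [CommRing B] [Algebra A B] (p : ℤ)
include hP

theorem preservesMono_bcCx_iff :
    (CohIII.TFun (CohIII.bcCx (algebraMap A B) P) p).PreservesMonomorphisms ↔
      Module.Flat B (B ⊗[A] Cok P (p + 1) p) := by
  obtain ⟨e⟩ := nonempty_cok_bcCx P B (algebraMap A B) rfl (p + 1) p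
  exact (preservesMono_iff_flat _ rfl (flat_bcCx_X P hP B _ rfl _)).trans (Module.Flat.equiv_iff e)

theorem preservesEpi_bcCx_iff :
    (CohIII.TFun (CohIII.bcCx (algebraMap A B) P) p).PreservesEpimorphisms ↔
      Module.Flat B (B ⊗[A] Cok P p (p - 1)) := by
  obtain ⟨e⟩ := nonempty_cok_bcCx P B (algebraMap A B) rfl p (p - 1)
  exact (preservesEpi_iff_flat _ (sub_add_cancel p 1) (flat_bcCx_X P hP B _ rfl _)
    (flat_bcCx_X P hP B _ rfl _)).trans (Module.Flat.equiv_iff e)

theorem preserves_bcCx :
    ((CohIII.TFun P p).PreservesEpimorphisms →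
        (CohIII.TFun (CohIII.bcCx (algebraMap A B) P) p).PreservesEpimorphisms) ∧
      ((CohIII.TFun P p).PreservesMonomorphisms →
        (CohIII.TFun (CohIII.bcCx (algebraMap A B) P) p).PreservesMonomorphisms) := by
  refine ⟨fun h => ?_, fun h => ?_⟩
  · rw [preservesEpi_bcCx_iff P hP B p]
    have := (preservesEpi_iff_flat P (sub_add_cancel p 1) (hP _) (hP _)).mp h
    infer_instance
  · rw [preservesMono_bcCx_iff P hP B p]
    have := (preservesMono_iff_flat P (rfl : p + 1 = p + 1) (hP _)).mp h
    infer_instance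

theorem preserves_iff_of_faithfullyFlat [Module.FaithfullyFlat A B] :
    ((CohIII.TFun (CohIII.bcCx (algebraMap A B) P) p).PreservesEpimorphisms ↔
        (CohIII.TFun P p).PreservesEpimorphisms) ∧
      ((CohIII.TFun (CohIII.bcCx (algebraMap A B) P) p).PreservesMonomorphisms ↔
        (CohIII.TFun P p).PreservesMonomorphisms) :=
  ⟨((preservesEpi_bcCx_iff P hP B p).trans (Module.Flat.iff_flat_tensorProduct ..)).trans
      (preservesEpi_iff_flat P (sub_add_cancel p 1) (hP _) (hP _)).symm,
    ((preservesMono_bcCx_iff P hP B p).trans (Module.Flat.iff_flat_tensorProduct ..)).trans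
      (preservesMono_iff_flat P (rfl : p + 1 = p + 1) (hP _)).symm⟩

omit B [CommRing B] [Algebra A B] hP in
lemma flat_localization_iff_mem_freeLocus (C : Type u) [AddCommGroup C] [Module A C]
    [Module.Finite A C] (y : PrimeSpectrum A) :
    Module.Flat (Localization.AtPrime y.asIdeal) (Localization.AtPrime y.asIdeal ⊗[A] C) ↔
      y ∈ Module.freeLocus A C := by
  rw [Module.mem_freeLocus_iff_tensor y (Localization.AtPrime y.asIdeal)]
  exact ⟨fun _ => Module.free_of_flat_of_isLocalRing, fun _ => inferInstance⟩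

omit B [CommRing B] [Algebra A B] hP in
theorem setOf_preservesEpi_localization_eq
    (hP' : ∀ i, Module.Finite A (P.X i) ∧ Module.Flat A (P.X i)) :
    {y : PrimeSpectrum A | (CohIII.TFun (CohIII.bcCx (algebraMap A (Localization.AtPrime y.asIdeal))
      P) p).PreservesEpimorphisms} = Module.freeLocus A (Cok P p (p - 1)) := by
  ext y
  have := (hP' (p - 1)).1
  exact (preservesEpi_bcCx_iff P (fun i => (hP' i).2) _ p).trans
    (flat_localization_iff_mem_freeLocus _ y)

omit B [CommRing B] [Algebra A B] hP in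
theorem setOf_preservesMono_localization_eq
    (hP' : ∀ i, Module.Finite A (P.X i) ∧ Module.Flat A (P.X i)) :
    {y : PrimeSpectrum A | (CohIII.TFun (CohIII.bcCx (algebraMap A (Localization.AtPrime y.asIdeal))
      P) p).PreservesMonomorphisms} = Module.freeLocus A (Cok P (p + 1) p) := by
  ext y
  have := (hP' p).1
  exact (preservesMono_bcCx_iff P (fun i => (hP' i).2) _ p).trans
    (flat_localization_iff_mem_freeLocus _ y)

end Groth.Agent.FlatComplex
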