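import Groth.Agent.FlatComplex.Rank
import Groth.Agent.FlatComplex.BaseChange
import Groth.Agent.FlatComplex.Exact
import Mathlib.LinearAlgebra.TensorProduct.Pi
import Mathlib.RingTheory.Localization.AtPrime.Basic
import Mathlib.RingTheory.Ideal.MinimalPrime.Localization

/-!
# Constant fibre dimension over a reduced ring
-/

universe u

open CategoryTheory CategoryTheory.Limits TensorProduct

namespace Groth.Agent.FlatComplex

variable {A : Type u} [CommRing A]

/-- Fibre dimensions are unchanged by base change. -/
lemma fiberDim_baseChange (C : Type u) [AddCommGroup C] [Module A C] (B : Type u) [CommRing B]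
    [Algebra A B] (q : PrimeSpectrum B) :
    fiberDim (B ⊗[A] C) q = fiberDim C (PrimeSpectrum.comap (algebraMap A B) q) := by
  let x := PrimeSpectrum.comap (algebraMap A B) q
  let _ : Algebra x.asIdeal.ResidueField q.asIdeal.ResidueField :=
    (Ideal.ResidueField.map x.asIdeal q.asIdeal (algebraMap A B) rfl).toAlgebra
  have : IsScalarTower A x.asIdeal.ResidueField q.asIdeal.ResidueField :=
    IsScalarTower.of_algebraMap_eq fun r => by
      rw [RingHom.algebraMap_toAlgebra, Ideal.ResidueField.map_algebraMap,
        ← IsScalarTower.algebraMap_apply]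
  rw [fiberDim, fiberDim,
    (AlgebraTensorModule.cancelBaseChange A B q.asIdeal.ResidueField q.asIdeal.ResidueField C).finrank_eq,
    ← (AlgebraTensorModule.cancelBaseChange A x.asIdeal.ResidueField q.asIdeal.ResidueField
      q.asIdeal.ResidueField C).finrank_eq, Module.finrank_baseChange]

lemma fiberDim_fin (n : ℕ) (x : PrimeSpectrum A) : fiberDim (Fin n → A) x = n := by
  rw [fiberDim, (TensorProduct.piScalarRight A x.asIdeal.ResidueField x.asIdeal.ResidueField
    (Fin n)).finrank_eq, Module.finrank_fin_fun]

lemma exists_fin_span_of_fiberDim [IsLocalRing A] (C : Type u) [AddCommGroup C] [Module A C]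
    [Module.Finite A C] :
    ∃ π : (Fin (fiberDim C (IsLocalRing.closedPoint A)) → A) →ₗ[A] C, Function.Surjective π := by
  classical
  let x := IsLocalRing.closedPoint A
  let K := x.asIdeal.ResidueField
  obtain ⟨s, hs⟩ := Module.Finite.fg_top (R := A) (M := C)
  have hspan : Submodule.span K ((fun c => (1 : K) ⊗ₜ[A] c) '' (s : Set C)) = ⊤ := by
    rw [← Submodule.baseChange_top (R := A) (M := C) (A := K), ← hs, Submodule.baseChange_span]
    rfl
  obtain ⟨b, hbs, hbspan, hbind⟩ :=
    exists_linearIndependent K ((fun c => (1 : K) ⊗ₜ[A] c) '' (s : Set C))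
  rw [hspan] at hbspan
  have hbfin : b.Finite := (s.finite_toSet.image _).subset hbs
  have : Fintype b := hbfin.fintype
  let B : Module.Basis b K (K ⊗[A] C) := Module.Basis.mk hbind (by rw [Subtype.range_coe, hbspan])
  have hcard : fiberDim C x = Fintype.card b := Module.finrank_eq_card_basis B
  choose v _ hv using fun z : b => hbs z.2
  let e : b ≃ Fin (fiberDim C x) := (Fintype.equivFinOfCardEq hcard.symm)
  refine ⟨Fintype.linearCombination A (v ∘ e.symm), ?_⟩
  rw [← LinearMap.range_eq_top, Fintype.range_linearCombination]
  rw [Set.range_comp, e.symm.range_eq_univ, Set.image_univ]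
  let N : Submodule A C := Submodule.span A (Set.range v)
  have h : x ∉ Module.support A (C ⧸ N) := by
    rw [Module.mem_support_iff_nontrivial_residueField_tensorProduct, not_nontrivial_iff_subsingleton]
    refine subsingleton_of_forall_eq 0 fun z => ?_
    obtain ⟨w, rfl⟩ := LinearMap.lTensor_surjective K (Submodule.mkQ_surjective N) z
    have hw : w ∈ Submodule.span K b := hbspan ▸ Submodule.mem_top
    change N.mkQ.baseChange K w = 0
    induction hw using Submodule.span_induction with
    | mem z hz =>
      rw [show z = (1 : K) ⊗ₜ[A] v ⟨z, hz⟩ from (hv ⟨z, hz⟩).symm, LinearMap.baseChange_tmul,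
        Submodule.mkQ_apply, (Submodule.Quotient.mk_eq_zero N).mpr
          (Submodule.subset_span (Set.mem_range_self _)), tmul_zero]
    | zero => rw [map_zero]
    | add a b _ _ ha hb => rw [map_add, ha, hb, add_zero]
    | smul r a _ ha => rw [map_smul, ha, smul_zero]
  by_contra hN
  have : Nontrivial (C ⧸ N) := Submodule.Quotient.nontrivial_iff.mpr hN
  exact h (IsLocalRing.closedPoint_mem_support A (C ⧸ N))

/-- A finite module over a reduced local ring with constant fibre dimension is free. -/
theorem free_of_fiberDim_eq [IsLocalRing A] [IsReduced A] (C : Type u) [AddCommGroup C] [Module A C]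
    [Module.Finite A C]
    (h : ∀ q : PrimeSpectrum A, q.asIdeal ∈ minimalPrimes A →
      fiberDim C q = fiberDim C (IsLocalRing.closedPoint A)) : Module.Free A C := by
  obtain ⟨π, hπ⟩ := exists_fin_span_of_fiberDim (A := A) C
  suffices Function.Injective π from Module.Free.of_equiv (LinearEquiv.ofBijective π ⟨this, hπ⟩)
  refine (injective_iff_map_eq_zero _).mpr fun v hv => funext fun i => ?_
  have hmem : v i ∈ nilradical A := by
    rw [nilradical, ← Ideal.sInf_minimalPrimes, Ideal.mem_sInf]
    intro q hq
    have hqp : q.IsPrime := hq.1.1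
    let x : PrimeSpectrum A := ⟨q, hqp⟩
    let K := x.asIdeal.ResidueField
    have hinj : Function.Injective (π.baseChange K) := by
      refine (LinearMap.injective_iff_surjective_of_finrank_eq_finrank ?_).mpr
        (LinearMap.lTensor_surjective K hπ)
      exact (fiberDim_fin _ x).trans (h x hq).symm
    have h0 : (1 : K) ⊗ₜ[A] v = 0 := hinj (by rw [LinearMap.baseChange_tmul, hv, tmul_zero, map_zero])
    have h1 := congrFun (congrArg (TensorProduct.piScalarRight A K K _) h0) i
    rw [map_zero, TensorProduct.piScalarRight_apply, TensorProduct.piScalarRightHom_tmul] at h1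
    rw [← Ideal.algebraMap_residueField_eq_zero (I := q) (x := v i)]
    simpa [K, x, Algebra.smul_def] using! h1
  rwa [nilradical_eq_zero, Submodule.zero_eq_bot, Ideal.mem_bot] at hmem

lemma fiberDim_le_closedPoint [IsLocalRing A] (C : Type u) [AddCommGroup C] [Module A C]
    [Module.Finite A C] (x : PrimeSpectrum A) :
    fiberDim C x ≤ fiberDim C (IsLocalRing.closedPoint A) := by
  obtain ⟨U, hU, hm, hle⟩ := exists_nhds_fiberDim_le C (IsLocalRing.closedPoint A)
  exact hle x ((IsLocalRing.specializes_closedPoint x).mem_open hU hm)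

lemma fiberDim_eq_of_free [IsLocalRing A] (C : Type u) [AddCommGroup C] [Module A C]
    [Module.Finite A C] [Module.Free A C] (x : PrimeSpectrum A) :
    fiberDim C x = Module.finrank A C := by
  rw [fiberDim_eq_rankAtStalk, Module.rankAtStalk_eq_finrank_of_free]
  rfl

/-- Exactness over a reduced local ring is detected at minimal primes. -/
theorem exact_iff_dRank_minimalPrimes [IsLocalRing A] [IsReduced A]
    (P : ChainComplex (ModuleCat.{u} A) ℤ) (hP : ∀ i, Module.Finite A (P.X i) ∧ Module.Flat A (P.X i))
    (p : ℤ) :
    ((CohIII.TFun P p).PreservesMonomorphisms ∧ (CohIII.TFun P p).PreservesEpimorphisms) ↔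
      ∀ q : PrimeSpectrum A, q.asIdeal ∈ minimalPrimes A →
        CohIII.dRank P p q = CohIII.dRank P p (IsLocalRing.closedPoint A) := by
  have := fun i => (hP i).1
  have hfl := fun i => (hP i).2
  rw [preservesMono_iff_flat P (rfl : p + 1 = p + 1) (hfl _),
    preservesEpi_iff_flat P (sub_add_cancel p 1) (hfl _) (hfl _)]
  have hd := fun x => dRank_add P (rfl : p + 1 = p + 1) (sub_add_cancel p 1) (hP p).1 (hP _).1 x
  have hr : ∀ x, fiberDim (P.X (p - 1)) x = Module.finrank A (P.X (p - 1)) := fun x => by
    have := hfl (p - 1)
    have : Module.Free A (P.X (p - 1)) := Module.free_of_flat_of_isLocalRing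
    exact fiberDim_eq_of_free _ x
  constructor
  · rintro ⟨h₁, h₂⟩ q -
    have : Module.Free A (Cok P (p + 1) p) := Module.free_of_flat_of_isLocalRing
    have : Module.Free A (Cok P p (p - 1)) := Module.free_of_flat_of_isLocalRing
    have e₁ := hd q
    have e₂ := hd (IsLocalRing.closedPoint A)
    simp only [fiberDim_eq_of_free, hr] at e₁ e₂
    omega
  · intro h
    have key : ∀ q : PrimeSpectrum A, q.asIdeal ∈ minimalPrimes A →
        fiberDim (Cok P (p + 1) p) q = fiberDim (Cok P (p + 1) p) (IsLocalRing.closedPoint A) ∧
        fiberDim (Cok P p (p - 1)) q = fiberDim (Cok P p (p - 1)) (IsLocalRing.closedPoint A) := by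
      intro q hq
      have e₁ := hd q
      have e₂ := hd (IsLocalRing.closedPoint A)
      have l₁ := fiberDim_le_closedPoint (Cok P (p + 1) p) q
      have l₂ := fiberDim_le_closedPoint (Cok P p (p - 1)) q
      have := h q hq
      simp only [hr] at e₁ e₂
      omega
    have := free_of_fiberDim_eq _ fun q hq => (key q hq).1
    have := free_of_fiberDim_eq _ fun q hq => (key q hq).2
    exact ⟨inferInstance, inferInstance⟩

/-- Locally constant fibre ranks and exactness. -/
theorem dRank_locallyConstant_iff [IsNoetherianRing A]
    (P : ChainComplex (ModuleCat.{u} A) ℤ) (hP : ∀ i, Module.Finite A (P.X i) ∧ Module.Flat A (P.X i))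
    (p : ℤ) :
    ((CohIII.TFun P p).PreservesMonomorphisms ∧ (CohIII.TFun P p).PreservesEpimorphisms →
        IsLocallyConstant (CohIII.dRank P p)) ∧
      (IsReduced A → IsLocallyConstant (CohIII.dRank P p) →
        (CohIII.TFun P p).PreservesMonomorphisms ∧ (CohIII.TFun P p).PreservesEpimorphisms) := by
  have := fun i => (hP i).1
  have hfl := fun i => (hP i).2
  rw [preservesMono_iff_flat P (rfl : p + 1 = p + 1) (hfl _),
    preservesEpi_iff_flat P (sub_add_cancel p 1) (hfl _) (hfl _)]
  have hd := fun x => dRank_add P (rfl : p + 1 = p + 1) (sub_add_cancel p 1) (hP p).1 (hP _).1 x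
  have hlc : ∀ (C : Type u) [AddCommGroup C] [Module A C] [Module.Finite A C] [Module.Flat A C],
      IsLocallyConstant (fun x : PrimeSpectrum A => fiberDim C x) := fun C _ _ _ _ => by
    have : Module.FinitePresentation A C := Module.finitePresentation_of_finite _ _
    rw [show (fun x : PrimeSpectrum A => fiberDim C x) = fun x => Module.rankAtStalk (R := A) C x from
      funext (fiberDim_eq_rankAtStalk C)]
    exact Module.isLocallyConstant_rankAtStalk
  have hlcr : IsLocallyConstant (fun x : PrimeSpectrum A => fiberDim (P.X (p - 1)) x) := by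
    have := hfl (p - 1)
    exact hlc _
  constructor
  · rintro ⟨h₁, h₂⟩
    refine (IsLocallyConstant.iff_eventually_eq _).mpr fun x => ?_
    filter_upwards [(IsLocallyConstant.iff_eventually_eq _).mp (hlc (Cok P (p + 1) p)) x,
      (IsLocallyConstant.iff_eventually_eq _).mp (hlc (Cok P p (p - 1))) x,
      (IsLocallyConstant.iff_eventually_eq _).mp hlcr x] with y h1 h2 h3
    have e₁ := hd y
    have e₂ := hd x
    omega
  · intro hred hconst
    have key : ∀ x y : PrimeSpectrum A, y ⤳ x →
        fiberDim (Cok P (p + 1) p) y = fiberDim (Cok P (p + 1) p) x ∧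
        fiberDim (Cok P p (p - 1)) y = fiberDim (Cok P p (p - 1)) x := by
      intro x y hyx
      obtain ⟨U, hU, hxU, hUle⟩ := exists_nhds_fiberDim_le (Cok P (p + 1) p) x
      obtain ⟨V, hV, hxV, hVle⟩ := exists_nhds_fiberDim_le (Cok P p (p - 1)) x
      have l₁ := hUle y (hyx.mem_open hU hxU)
      have l₂ := hVle y (hyx.mem_open hV hxV)
      have e₁ := hd y
      have e₂ := hd x
      have c₁ : CohIII.dRank P p y = CohIII.dRank P p x :=
        hyx.mem_open (hconst.isOpen_fiber _) rfl
      have c₂ : fiberDim (P.X (p - 1)) y = fiberDim (P.X (p - 1)) x :=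
        hyx.mem_open (hlcr.isOpen_fiber _) rfl
      omega
    have flat_of : ∀ (C : Type u) [AddCommGroup C] [Module A C] [Module.Finite A C],
        (∀ x y : PrimeSpectrum A, y ⤳ x → fiberDim C y = fiberDim C x) → Module.Flat A C := by
      intro C _ _ _ hC
      have : Module.FinitePresentation A C := Module.finitePresentation_of_finite _ _
      have : Module.Projective A C := Module.freeLocus_eq_univ_iff.mp <| Set.eq_univ_of_forall fun x => by
        rw [Module.mem_freeLocus_iff_tensor x (Localization.AtPrime x.asIdeal)]
        refine free_of_fiberDim_eq _ fun q _ => ?_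
        rw [fiberDim_baseChange, fiberDim_baseChange]
        have e : PrimeSpectrum.comap (algebraMap A (Localization.AtPrime x.asIdeal))
            (IsLocalRing.closedPoint (Localization.AtPrime x.asIdeal)) = x :=
          PrimeSpectrum.ext Localization.AtPrime.under_maximalIdeal
        rw [e]
        refine hC x _ ((PrimeSpectrum.le_iff_specializes _ _).mp ?_)
        exact (Ideal.comap_mono (IsLocalRing.le_maximalIdeal q.isPrime.ne_top)).trans_eq
          (congrArg PrimeSpectrum.asIdeal e)
      infer_instance
    exact ⟨flat_of _ fun x y h => (key x y h).1, flat_of _ fun x y h => (key x y h).2⟩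

end Groth.Agent.FlatComplex
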