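import Groth.Agent.FlatComplex.Homology
import Groth.Agent.FlatComplex.Exact

/-!
# Right exact `T_p` is a tensor product
-/

universe u

open CategoryTheory CategoryTheory.Limits TensorProduct MonoidalCategory

namespace Groth.Agent.FlatComplex

variable {A : Type u} [CommRing A] (P : ChainComplex (ModuleCat.{u} A) ℤ)
  (hP : ∀ i, Module.Flat A (P.X i))
include hP

/-- If `T_p` is right exact it is `T_p(A) ⊗ -`. -/
theorem exists_iso_tensorLeft {p : ℤ} (h : (CohIII.TFun P p).PreservesEpimorphisms) :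
    Nonempty (CohIII.TFun P p ≅
      tensorLeft (ModuleCat.of A (LinearMap.ker (dbar P (p + 1) p (p - 1))))) := by
  rw [preservesEpi_iff_flat P (sub_add_cancel p 1) (hP _) (hP _)] at h
  obtain ⟨ι, hinj, hrange, hnat⟩ := exists_toCok P (rfl : p + 1 = p + 1) (sub_add_cancel p 1)
  let H := LinearMap.ker (dbar P (p + 1) p (p - 1))
  have hκ := fun M : ModuleCat.{u} A =>
    rTensor_kerDbar (P := P) (i := p + 1) (hP (p - 1)) h M
  let e : ∀ M : ModuleCat.{u} A, (CohIII.TFun P p).obj M ≃ₗ[A] H ⊗[A] M := fun M =>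
    LinearEquiv.trans (σ₁₂ := RingHom.id A) (σ₂₁ := RingHom.id A)
      (LinearEquiv.ofInjective (ι M) (hinj M))
      (LinearEquiv.trans (σ₁₂ := RingHom.id A) (σ₂₁ := RingHom.id A)
        (LinearEquiv.ofEq _ _ ((hrange M).trans (hκ M).2.symm))
        (LinearEquiv.ofInjective (H.subtype.rTensor M) (hκ M).1).symm)
  have he : ∀ (M : ModuleCat.{u} A) x, H.subtype.rTensor M (e M x) = ι M x := fun M x =>
    LinearEquiv.ofInjective_symm_apply (h := (hκ M).1) (H.subtype.rTensor M) _
  refine ⟨NatIso.ofComponents (fun M => (e M).toModuleIso) fun {M N} g => ?_⟩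
  ext x
  refine (hκ N).1 ?_
  change H.subtype.rTensor N (e N ((CohIII.TFun P p).map g x)) =
    H.subtype.rTensor N (g.hom.lTensor H (e M x))
  rw [he, hnat, ← he, ← LinearMap.comp_apply, LinearMap.lTensor_comp_rTensor,
    ← LinearMap.rTensor_comp_lTensor, LinearMap.comp_apply]

theorem preservesEpi_iff_iso_tensorLeft (p : ℤ) :
    (CohIII.TFun P p).PreservesEpimorphisms ↔
      ∃ N : ModuleCat.{u} A, Nonempty (CohIII.TFun P p ≅ tensorLeft N) := by
  refine ⟨fun h => ⟨_, exists_iso_tensorLeft P hP h⟩, ?_⟩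
  rintro ⟨N, ⟨e⟩⟩
  refine (preservesEpi_iff P p).mpr fun M M' g hg => ?_
  intro y
  obtain ⟨w, hw⟩ := LinearMap.lTensor_surjective N hg (e.hom.app M' y)
  refine ⟨e.inv.app M w, ?_⟩
  rw [← ModuleCat.comp_apply, ← e.inv.naturality, ModuleCat.comp_apply]
  change e.inv.app M' (g.hom.lTensor N w) = y
  refine (congrArg (e.inv.app M') hw).trans ?_
  rw [← ModuleCat.comp_apply, Iso.hom_inv_id_app]
  rfl

omit hP in
/-- `T_p` is linear. -/
lemma map_lsmul {p : ℤ} (M : ModuleCat.{u} A) (f : A) (x : (CohIII.TFun P p).obj M) :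
    (CohIII.TFun P p).map (ModuleCat.ofHom (LinearMap.lsmul A M f)) x = f • x := by
  obtain ⟨ι, hinj, -, hnat⟩ := exists_toCok P (rfl : p + 1 = p + 1) (sub_add_cancel p 1)
  refine hinj M ?_
  rw [hnat, map_smul]
  induction ι M x using TensorProduct.induction_on with
  | zero => rw [map_zero, smul_zero]
  | tmul c m => exact (LinearMap.lTensor_tmul _ _ _ _).trans (tmul_smul f c m)
  | add a b ha hb => rw [map_add, smul_add, ha, hb]

omit hP in
/-- `T_p(M) = 0` for all `M` once it holds at the residue field. -/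
theorem subsingleton_of_residueField [IsNoetherianRing A] [IsLocalRing A]
    (hP' : ∀ i, Module.Finite A (P.X i) ∧ Module.Flat A (P.X i)) {p : ℤ}
    (hk : Subsingleton ((CohIII.TFun P p).obj (ModuleCat.of A (IsLocalRing.ResidueField A)))) :
    (CohIII.TFun P p).PreservesEpimorphisms ∧
      Subsingleton (LinearMap.ker (dbar P (p + 1) p (p - 1))) ∧
      ∀ M, Subsingleton ((CohIII.TFun P p).obj M) := by
  have hepi : (CohIII.TFun P p).PreservesEpimorphisms :=
    (preservesEpi_iff_surjective_residueField P hP' p).mpr fun y => ⟨0, @Subsingleton.elim _ hk _ _⟩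
  obtain ⟨e⟩ := exists_iso_tensorLeft P (fun i => (hP' i).2) hepi
  have := (hP' p).1
  let H := LinearMap.ker (dbar P (p + 1) p (p - 1))
  have h0 : Subsingleton (IsLocalRing.ResidueField A ⊗[A] H) :=
    ((TensorProduct.comm A _ _).toEquiv.trans
      (e.app (ModuleCat.of A (IsLocalRing.ResidueField A))).symm.toLinearEquiv.toEquiv).subsingleton
  have hH : Subsingleton H := IsLocalRing.subsingleton_tensorProduct.mp h0
  refine ⟨hepi, hH, fun M => ?_⟩
  have : Subsingleton (H ⊗[A] M) := inferInstance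
  exact (e.app M).toLinearEquiv.toEquiv.subsingleton_congr.mpr this

end Groth.Agent.FlatComplex
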