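import Groth.Agent.FlatComplex.Exact
import Groth.Agent.FlatCrit.Basic
import Mathlib.RingTheory.Filtration
import Mathlib.RingTheory.Artinian.Ring
import Mathlib.LinearAlgebra.TensorProduct.Quotient

/-!
# The residue field criterion: Artinian rings, thickened residue fields
-/

universe u

open CategoryTheory CategoryTheory.Limits TensorProduct IsLocalRing

namespace Groth.Agent.FlatComplex

variable {A : Type u} [CommRing A] [IsLocalRing A] (P : ChainComplex (ModuleCat.{u} A) ℤ)

/-- The core of the residue field criterion. -/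
lemma injective_of_lift {p r : ℤ}
    (h : ∀ z : P.X p ⊗[A] ResidueField A, dT P (ResidueField A) p r z = 0 →
      ∃ x0 : P.X p, (P.d p r).hom.rangeRestrict x0 ∈
          maximalIdeal A • (⊤ : Submodule A (LinearMap.range (P.d p r).hom)) ∧
        ∃ w, x0 ⊗ₜ[A] (1 : ResidueField A) - z = dT P (ResidueField A) (p + 1) p w) :
    Function.Injective ((LinearMap.range (P.d p r).hom).subtype.lTensor (ResidueField A)) := by
  let d := (P.d p r).hom
  refine (injective_iff_map_eq_zero _).mpr fun u hu => ?_
  obtain ⟨v, rfl⟩ := LinearMap.lTensor_surjective (ResidueField A) d.surjective_rangeRestrict u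
  rw [← LinearMap.comp_apply, ← LinearMap.lTensor_comp] at hu
  change d.lTensor (ResidueField A) v = 0 at hu
  obtain ⟨x0, hx0, w, hw⟩ := h (TensorProduct.comm A _ _ v) (by
    change d.rTensor _ _ = 0
    rw [← LinearMap.comm_comp_lTensor_comp_comm_eq, LinearMap.comp_apply, LinearMap.comp_apply]
    simp only [LinearEquiv.coe_coe, TensorProduct.comm_comm, hu, map_zero])
  let ρ := d.rangeRestrict.rTensor (ResidueField A)
  have hρw : ρ (dT P (ResidueField A) (p + 1) p w) = 0 := by
    change d.rangeRestrict.rTensor _ ((P.d (p + 1) p).hom.rTensor _ w) = 0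
    rw [← LinearMap.comp_apply, ← LinearMap.rTensor_comp,
      show d.rangeRestrict ∘ₗ (P.d (p + 1) p).hom = 0 from
        LinearMap.ext fun y => Subtype.ext (d_comp_d_apply P (p + 1) p r y)]
    simp
  have hkill : ∀ y ∈ maximalIdeal A • (⊤ : Submodule A (LinearMap.range d)),
      y ⊗ₜ[A] (1 : ResidueField A) = 0 := by
    intro y hy
    induction hy using Submodule.smul_induction_on' with
    | smul a ha y _ =>
      rw [TensorProduct.smul_tmul, show a • (1 : ResidueField A) = 0 by
        rw [Algebra.smul_def, mul_one]; exact (residue_eq_zero_iff a).mpr ha, tmul_zero]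
    | add a _ b _ ha hb => rw [add_tmul, ha, hb, add_zero]
  have hρv : ρ (TensorProduct.comm A _ _ v) = 0 := by
    have := congrArg ρ hw
    rw [map_sub, hρw, sub_eq_zero] at this
    rw [← this]
    exact hkill _ hx0
  change d.rangeRestrict.rTensor _ _ = 0 at hρv
  rw [← LinearMap.comm_comp_lTensor_comp_comm_eq, LinearMap.comp_apply, LinearMap.comp_apply] at hρv
  simp only [LinearEquiv.coe_coe, TensorProduct.comm_comm] at hρv
  exact (LinearEquiv.map_eq_zero_iff _).mp hρv

lemma lift_of_surjective {p r : ℤ} (hr : r + 1 = p)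
    (hs : Function.Surjective ((CohIII.TFun P p).map
      (ModuleCat.ofHom (Algebra.linearMap A (ResidueField A))))) :
    ∀ z : P.X p ⊗[A] ResidueField A, dT P (ResidueField A) p r z = 0 →
      ∃ x0 : P.X p, (P.d p r).hom.rangeRestrict x0 ∈
          maximalIdeal A • (⊤ : Submodule A (LinearMap.range (P.d p r).hom)) ∧
        ∃ w, x0 ⊗ₜ[A] (1 : ResidueField A) - z = dT P (ResidueField A) (p + 1) p w := by
  intro z hz
  obtain ⟨x, hx, w, hw⟩ := (map_surjective_iff P rfl hr _).mp hs z hz
  obtain ⟨x0, rfl⟩ : ∃ x0, x0 ⊗ₜ[A] (1 : A) = x :=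
    ⟨TensorProduct.rid A _ x, (TensorProduct.rid A (P.X p)).symm_apply_apply x⟩
  refine ⟨x0, ?_, w, by rw [← hw]; simp⟩
  have := congrArg (TensorProduct.rid A (P.X r)) hx
  rw [map_zero, LinearMap.rTensor_tmul, TensorProduct.rid_tmul, one_smul] at this
  rw [show (P.d p r).hom.rangeRestrict x0 = 0 from Subtype.ext this]
  exact zero_mem _

/-- Over an Artinian local ring, no finiteness is needed. -/
theorem flat_cok_of_surjective [IsArtinianRing A] {p r : ℤ} (hr : r + 1 = p)
    (h0 : Module.Flat A (P.X r))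
    (hs : Function.Surjective ((CohIII.TFun P p).map
      (ModuleCat.ofHom (Algebra.linearMap A (ResidueField A))))) :
    Module.Flat A (Cok P p r) := by
  have hinj := injective_of_lift P (lift_of_surjective P hr hs)
  have hnil : IsNilpotent (maximalIdeal A) := by
    rw [← IsLocalRing.jacobson_eq_maximalIdeal ⊥ bot_ne_top]
    exact IsArtinianRing.isNilpotent_jacobson_bot
  let _ : Field (A ⧸ maximalIdeal A) := Ideal.Quotient.field _
  refine FlatCrit.flat_of_isNilpotent hnil ?_
  exact lTensor_injective_of_exact_of_exact_of_rTensor_injective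
    (LinearMap.exact_subtype_mkQ (LinearMap.range (P.d p r).hom)) (Submodule.mkQ_surjective _)
    (LinearMap.exact_subtype_mkQ (maximalIdeal A)) (Submodule.mkQ_surjective _)
    ((LinearMap.lTensor_inj_iff_rTensor_inj _ _).mp hinj)
    (Module.Flat.lTensor_preserves_injective_linearMap _ Subtype.val_injective)

theorem preservesEpi_iff_surjective_residueField_artinian [IsArtinianRing A]
    (hP : ∀ i, Module.Flat A (P.X i)) (p : ℤ) :
    (CohIII.TFun P p).PreservesEpimorphisms ↔
      Function.Surjective ((CohIII.TFun P p).map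
        (ModuleCat.ofHom (Algebra.linearMap A (ResidueField A)))) :=
  ⟨fun h => (preservesEpi_iff P p).mp h _ surjective_algebraLinearMap_residueField,
    fun h => (preservesEpi_iff_flat P (sub_add_cancel p 1) (hP _) (hP _)).mpr
      (flat_cok_of_surjective P (sub_add_cancel p 1) (hP _) h)⟩

/-- Right exactness from surjectivity for large thickenings of the residue field. -/
theorem preservesEpi_of_thickenings [IsNoetherianRing A]
    (hP : ∀ i, Module.Finite A (P.X i) ∧ Module.Flat A (P.X i)) (p : ℤ) (n₀ : ℕ)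
    (h : ∀ n : ℕ, n₀ ≤ n → Function.Surjective ((CohIII.TFun P p).map (ModuleCat.ofHom
        (Ideal.Quotient.factorₐ A (Ideal.pow_le_self (I := maximalIdeal A)
          (Nat.succ_ne_zero n))).toLinearMap :
        ModuleCat.of A (A ⧸ maximalIdeal A ^ (n + 1)) ⟶ ModuleCat.of A (A ⧸ maximalIdeal A))).hom) :
    (CohIII.TFun P p).PreservesEpimorphisms := by
  have hfl := fun i => (hP i).2
  have := (hP p).1
  have := (hP (p - 1)).1
  have := hfl (p - 1)
  have : Module.Free A (P.X (p - 1)) := Module.free_of_flat_of_isLocalRing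
  obtain ⟨c, hc⟩ := Ideal.exists_pow_inf_eq_pow_smul (maximalIdeal A)
    (LinearMap.range (P.d p (p - 1)).hom)
  have hlift : ∀ z : P.X p ⊗[A] ResidueField A, dT P (ResidueField A) p (p - 1) z = 0 →
      ∃ x0 : P.X p, (P.d p (p - 1)).hom.rangeRestrict x0 ∈
          maximalIdeal A • (⊤ : Submodule A (LinearMap.range (P.d p (p - 1)).hom)) ∧
        ∃ w, x0 ⊗ₜ[A] (1 : ResidueField A) - z = dT P (ResidueField A) (p + 1) p w := by
    intro z hz
    obtain ⟨x, hx, w, hw⟩ := (map_surjective_iff P rfl (sub_add_cancel p 1) _).mp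
      (h (max n₀ c) (le_max_left _ _)) z hz
    obtain ⟨x0, rfl⟩ : ∃ x0, x0 ⊗ₜ[A] (Ideal.Quotient.mk _ (1 : A)) = x := by
      obtain ⟨q, hq⟩ := Submodule.Quotient.mk_surjective _
        (tensorQuotEquivQuotSMul (P.X p) (maximalIdeal A ^ (max n₀ c + 1)) x)
      refine ⟨q, (tensorQuotEquivQuotSMul (P.X p) (maximalIdeal A ^ (max n₀ c + 1))).injective ?_⟩
      rw [tensorQuotEquivQuotSMul_tmul_mk, one_smul, hq]
    refine ⟨x0, ?_, w, Eq.trans (congrArg (· - z) (by exact rfl)) hw⟩
    have h1 := congrArg (tensorQuotEquivQuotSMul (P.X (p - 1)) (maximalIdeal A ^ (max n₀ c + 1))) hx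
    rw [LinearMap.rTensor_tmul, tensorQuotEquivQuotSMul_tmul_mk, one_smul, map_zero,
      Submodule.Quotient.mk_eq_zero] at h1
    have h2 : (P.d p (p - 1)).hom x0 ∈ maximalIdeal A ^ (max n₀ c + 1 - c) •
        (maximalIdeal A ^ c • (⊤ : Submodule A (P.X (p - 1))) ⊓ LinearMap.range (P.d p (p - 1)).hom) :=
      (hc (max n₀ c + 1) (by omega)).le ⟨h1, x0, rfl⟩
    have h3 : (P.d p (p - 1)).hom x0 ∈ maximalIdeal A • LinearMap.range (P.d p (p - 1)).hom :=
      Submodule.smul_mono (Ideal.pow_le_self (by omega)) inf_le_right h2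
    rw [← Submodule.map_subtype_top (LinearMap.range (P.d p (p - 1)).hom),
      ← Submodule.map_smul''] at h3
    obtain ⟨y, hy, hy'⟩ := h3
    exact (Subtype.ext hy' : y = (P.d p (p - 1)).hom.rangeRestrict x0) ▸ hy
  have := Module.free_of_lTensor_residueField_injective
    (LinearMap.range (P.d p (p - 1)).hom).subtype _ (Submodule.mkQ_surjective _)
    (LinearMap.exact_subtype_mkQ _) (injective_of_lift P hlift)
  rw [preservesEpi_iff_flat P (sub_add_cancel p 1) (hfl _) (hfl _)]
  infer_instance

end Groth.Agent.FlatComplex
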