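import Groth.Agent.FlatComplex.Artinian
import Groth.Agent.FlatComplex.Tensor
import Mathlib.RingTheory.Length

/-!
# Lengths and exactness over an Artinian local ring
-/

universe u

open CategoryTheory CategoryTheory.Limits TensorProduct IsLocalRing

namespace Groth.Agent.FlatComplex

variable {A : Type u} [CommRing A] (P : ChainComplex (ModuleCat.{u} A) ℤ)

/-- `T_p` is half exact. -/
theorem exact_map_middle (hP : ∀ i, Module.Flat A (P.X i)) (p : ℤ) {M M' M'' : ModuleCat.{u} A}
    (f : M' ⟶ M) (g : M ⟶ M'') (hf : Function.Injective f) (hg : Function.Surjective g)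
    (he : Function.Exact f g) :
    Function.Exact ((CohIII.TFun P p).map f) ((CohIII.TFun P p).map g) := by
  obtain ⟨ι, hinj, hrange, hnat⟩ := exists_toCok P (rfl : p + 1 = p + 1) (sub_add_cancel p 1)
  have hex := lTensor_exact (Cok P (p + 1) p) (f := f.hom) (g := g.hom) he hg
  intro h
  constructor
  · intro hh
    obtain ⟨c, hc⟩ := (hex (ι M h)).mp (by rw [← hnat, hh, map_zero])
    have hc0 : (dbar P (p + 1) p (p - 1)).rTensor M' c = 0 := by
      refine (injective_iff_map_eq_zero _).mp
        (Module.Flat.lTensor_preserves_injective_linearMap (M := P.X (p - 1)) f.hom hf) _ ?_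
      rw [← LinearMap.comp_apply, LinearMap.lTensor_comp_rTensor,
        ← LinearMap.rTensor_comp_lTensor, LinearMap.comp_apply, hc]
      exact (hrange M).le ⟨h, rfl⟩
    obtain ⟨h', rfl⟩ := (hrange M').ge hc0
    exact ⟨h', hinj M (by rw [hnat, hc])⟩
  · rintro ⟨h', rfl⟩
    refine hinj M'' ?_
    rw [map_zero, hnat, hnat]
    exact (hex _).mpr ⟨_, rfl⟩

lemma length_le_add {L M N : Type u} [AddCommGroup L] [Module A L] [AddCommGroup M] [Module A M]
    [AddCommGroup N] [Module A N] (f : L →ₗ[A] M) (g : M →ₗ[A] N) (he : Function.Exact f g) :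
    Module.length A M = Module.length A (LinearMap.range f) + Module.length A (LinearMap.range g) :=
  Module.length_eq_add_of_exact (LinearMap.range f).subtype g.rangeRestrict
    (Submodule.injective_subtype _) g.surjective_rangeRestrict (fun x => by
      rw [Submodule.coe_subtype, Subtype.range_coe, SetLike.mem_coe, LinearMap.mem_range]
      exact Subtype.ext_iff.trans (he x))

variable [IsLocalRing A] [IsArtinianRing A] (hP : ∀ i, Module.Flat A (P.X i)) (p : ℤ)
include hP

omit [IsArtinianRing A] in
/-- `len T_p(M) ≤ len T_p(k) * len M`. -/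
theorem length_T_le (M : ModuleCat.{u} A) (hM : Module.length A M ≠ ⊤) :
    Module.length A (CohIII.T P p M) ≤
      Module.length A (CohIII.T P p (ModuleCat.of A (ResidueField A))) * Module.length A M := by
  have key : ∀ (N : Type u) [AddCommGroup N] [Module A N], IsFiniteLength A N →
      Module.length A (CohIII.T P p (ModuleCat.of A N)) ≤
        Module.length A (CohIII.T P p (ModuleCat.of A (ResidueField A))) * Module.length A N := by
    intro N _ _ h
    induction h with
    | @of_subsingleton N _ _ _ =>
      obtain ⟨ι, hinj, -, -⟩ := exists_toCok P (rfl : p + 1 = p + 1) (sub_add_cancel p 1)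
      have : Subsingleton (Cok P (p + 1) p ⊗[A] N) := inferInstance
      have : Subsingleton (CohIII.T P p (ModuleCat.of A N)) :=
        (hinj (ModuleCat.of A N)).subsingleton
      rw [Module.length_eq_zero (M := CohIII.T P p (ModuleCat.of A N))]
      exact zero_le
    | @of_simple_quotient N _ _ S hS _ ih =>
      let f : ModuleCat.of A S ⟶ ModuleCat.of A N := ModuleCat.ofHom S.subtype
      let g : ModuleCat.of A N ⟶ ModuleCat.of A (N ⧸ S) := ModuleCat.ofHom S.mkQ
      have he := exact_map_middle P hP p f g (Submodule.injective_subtype S)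
        (Submodule.mkQ_surjective S) (LinearMap.exact_subtype_mkQ S)
      refine (length_le_add ((CohIII.TFun P p).map f).hom ((CohIII.TFun P p).map g).hom he).trans_le ?_
      rw [Module.length_eq_add_of_exact S.subtype S.mkQ (Submodule.injective_subtype S)
        (Submodule.mkQ_surjective S) (LinearMap.exact_subtype_mkQ S), mul_add]
      refine add_le_add ((Module.length_le_of_surjective ((CohIII.TFun P p).map f).hom.rangeRestrict
        (LinearMap.surjective_rangeRestrict _)).trans ih)
        ((Module.length_le_of_injective _ (Submodule.injective_subtype _)).trans ?_)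
      obtain ⟨I, hI, ⟨e⟩⟩ := (isSimpleModule_iff_quot_maximal (R := A) (M := N ⧸ S)).mp hS
      obtain rfl : I = maximalIdeal A := IsLocalRing.eq_maximalIdeal hI
      rw [Module.length_eq_one_iff.mpr hS, mul_one]
      exact ((CohIII.TFun P p).mapIso
        (X := ModuleCat.of A (N ⧸ S)) (Y := ModuleCat.of A (ResidueField A))
        e.toModuleIso).toLinearEquiv.length_eq.le
  exact key M (Module.length_ne_top_iff.mp hM)

/-- Equality at `A` forces exactness. -/
theorem exact_of_length_eq
    (hd : Module.length A (CohIII.T P p (ModuleCat.of A (ResidueField A))) ≠ ⊤)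
    (hj : Module.length A (CohIII.T P p (ModuleCat.of A A)) =
      Module.length A (CohIII.T P p (ModuleCat.of A (ResidueField A))) * Module.length A A) :
    Function.Surjective ((CohIII.TFun P p).map
        (ModuleCat.ofHom (Algebra.linearMap A (ResidueField A)))) ∧
      (CohIII.TFun P p).PreservesMonomorphisms ∧ (CohIII.TFun P p).PreservesEpimorphisms ∧
        Module.Flat A ((CohIII.TFun P p).obj (ModuleCat.of A A)) := by
  have hA : Module.length A A ≠ ⊤ := Module.length_ne_top
  have hTA : Module.length A (CohIII.T P p (ModuleCat.of A A)) ≠ ⊤ := by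
    rw [hj]; exact WithTop.mul_ne_top hd hA
  -- surjectivity at the residue field
  let f : ModuleCat.of A (maximalIdeal A) ⟶ ModuleCat.of A A :=
    ModuleCat.ofHom (maximalIdeal A).subtype
  let g : ModuleCat.of A A ⟶ ModuleCat.of A (ResidueField A) :=
    ModuleCat.ofHom (Algebra.linearMap A (ResidueField A))
  have hfg : Function.Exact f g := fun a => by
    change residue A a = 0 ↔ _
    rw [residue_eq_zero_iff]
    exact ⟨fun h => ⟨⟨a, h⟩, rfl⟩, fun ⟨b, hb⟩ => hb ▸ b.2⟩
  have he := exact_map_middle P hP p f g (Submodule.injective_subtype _)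
    surjective_algebraLinearMap_residueField hfg
  have h1 := length_le_add ((CohIII.TFun P p).map f).hom ((CohIII.TFun P p).map g).hom he
  have hAm : Module.length A A = Module.length A (maximalIdeal A) + 1 := by
    rw [Module.length_eq_add_of_exact f.hom g.hom (Submodule.injective_subtype _)
      surjective_algebraLinearMap_residueField hfg]
    congr 1
    exact Module.length_eq_one_iff.mpr (isSimpleModule_iff_quot_maximal.mpr
      ⟨maximalIdeal A, maximalIdeal.isMaximal A, ⟨LinearEquiv.refl A _⟩⟩)
  have hm : Module.length A (maximalIdeal A) ≠ ⊤ := fun h => hA (by rw [hAm, h]; rfl)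
  have hsurj : Function.Surjective ((CohIII.TFun P p).map g) := by
    obtain ⟨d, hd'⟩ := ENat.ne_top_iff_exists.mp hd
    obtain ⟨lm, hlm⟩ := ENat.ne_top_iff_exists.mp hm
    have h2 : Module.length A (LinearMap.range ((CohIII.TFun P p).map f).hom) ≤ (d * lm : ℕ) := by
      refine (Module.length_le_of_surjective _ (LinearMap.surjective_rangeRestrict _)).trans ?_
      rw [Nat.cast_mul, hd', hlm]
      exact length_T_le P hP p (ModuleCat.of A (maximalIdeal A)) hm
    have h3 : Module.length A (LinearMap.range ((CohIII.TFun P p).map g).hom) ≤ (d : ℕ) := by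
      rw [hd']; exact Module.length_le_of_injective _ (Submodule.injective_subtype _)
    obtain ⟨a, ha⟩ := ENat.ne_top_iff_exists.mp (ne_top_of_le_ne_top (ENat.natCast_ne_top _) h2)
    obtain ⟨b, hb⟩ := ENat.ne_top_iff_exists.mp (ne_top_of_le_ne_top (ENat.natCast_ne_top _) h3)
    change Module.length A (CohIII.T P p (ModuleCat.of A A)) = _ at h1
    rw [hj, hAm, ← hd', ← hlm, ← ha, ← hb] at h1
    rw [← ha] at h2
    rw [← hb] at h3
    have h1' : d * (lm + 1) = a + b := by exact_mod_cast h1
    have h2' : a ≤ d * lm := by exact_mod_cast h2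
    have h3' : b ≤ d := by exact_mod_cast h3
    rw [Nat.mul_succ] at h1'
    have hbd : b = d := by omega
    refine (LinearMap.range_eq_top (f := ((CohIII.TFun P p).map g).hom)).mp ?_
    by_contra hne
    have hN := (isFiniteLength_iff_isNoetherian_isArtinian.mp
      (Module.length_ne_top_iff.mp hd)).1
    have hAr := (isFiniteLength_iff_isNoetherian_isArtinian.mp
      (Module.length_ne_top_iff.mp hd)).2
    have hlt := @Submodule.length_lt A ((CohIII.TFun P p).obj (ModuleCat.of A (ResidueField A)))
      _ _ _ hAr hN (LinearMap.range ((CohIII.TFun P p).map g).hom) hne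
    have : (b : ℕ∞) < (d : ℕ∞) := hb.trans_lt (hlt.trans_eq hd'.symm)
    rw [hbd] at this
    exact lt_irrefl _ this
  have hepi : (CohIII.TFun P p).PreservesEpimorphisms :=
    (preservesEpi_iff_surjective_residueField_artinian P hP p).mpr hsurj
  -- `T(A)` is free
  obtain ⟨e⟩ := exists_iso_tensorLeft P hP hepi
  let H := LinearMap.ker (dbar P (p + 1) p (p - 1))
  let eA : (CohIII.TFun P p).obj (ModuleCat.of A A) ≃ₗ[A] H :=
    LinearEquiv.trans (σ₁₂ := RingHom.id A) (σ₂₁ := RingHom.id A)
      (e.app (ModuleCat.of A A)).toLinearEquiv (TensorProduct.rid A H)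
  let K := ResidueField A
  let ek : (CohIII.TFun P p).obj (ModuleCat.of A K) ≃ₗ[A] K ⊗[A] H :=
    LinearEquiv.trans (σ₁₂ := RingHom.id A) (σ₂₁ := RingHom.id A)
      (e.app (ModuleCat.of A K)).toLinearEquiv (TensorProduct.comm A H K)
  have hlenk : Module.length A (K ⊗[A] H) =
      Module.length A (CohIII.T P p (ModuleCat.of A (ResidueField A))) := ek.length_eq.symm
  have hflk : IsNoetherian A (K ⊗[A] H) :=
    (isFiniteLength_iff_isNoetherian_isArtinian.mp
      (Module.length_ne_top_iff.mp (hlenk ▸ hd))).1
  have : Module.Finite K (K ⊗[A] H) := Module.Finite.of_restrictScalars_finite A K _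
  let n := Module.finrank K (K ⊗[A] H)
  have hn : (n : ℕ∞) = Module.length A (CohIII.T P p (ModuleCat.of A (ResidueField A))) := by
    rw [← hlenk, Module.length_eq_of_surjective (R := K) (S := A) IsLocalRing.residue_surjective,
      Module.length_eq_finrank]
  choose v hv using fun i => TensorProduct.mk_surjective A H K Ideal.Quotient.mk_surjective
    (Module.finBasis K (K ⊗[A] H) i)
  let π : (Fin n → A) →ₗ[A] H := Fintype.linearCombination A v
  have hπ : Function.Surjective π := by
    rw [← LinearMap.range_eq_top]
    have hstep : (⊤ : Submodule A H) ≤ LinearMap.range π ⊔ maximalIdeal A • ⊤ := by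
      intro h _
      have h1 : (1 : K) ⊗ₜ[A] h ∈ Submodule.map (TensorProduct.mk A K H 1) (LinearMap.range π) := by
        have h2 : (1 : K) ⊗ₜ[A] h ∈ Submodule.span K (Set.range (Module.finBasis K (K ⊗[A] H))) := by
          rw [Module.Basis.span_eq]; trivial
        rw [← SetLike.mem_coe, ← Submodule.coe_restrictScalars A,
          Submodule.restrictScalars_span A K IsLocalRing.residue_surjective] at h2
        refine Submodule.span_le.mpr ?_ h2
        rintro _ ⟨i, rfl⟩
        exact ⟨v i, ⟨Pi.single i 1, by simp [π, Fintype.linearCombination_apply_single]⟩, hv i⟩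
      obtain ⟨h', hh', hh''⟩ := h1
      have h0 : (1 : K) ⊗ₜ[A] (h - h') = 0 := by
        rw [tmul_sub, sub_eq_zero]; exact hh''.symm
      have h4 : h - h' ∈ maximalIdeal A • (⊤ : Submodule A H) := by
        rw [← Submodule.Quotient.mk_eq_zero]
        have := congrArg (quotTensorEquivQuotSMul H (maximalIdeal A)) h0
        exact ((quotTensorEquivQuotSMul_mk_tmul (maximalIdeal A) 1 (h - h')).trans
          (by rw [one_smul])).symm.trans (this.trans (map_zero _))
      exact Submodule.mem_sup.mpr ⟨h', hh', h - h', h4, add_sub_cancel h' h⟩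
    have hiter : ∀ i : ℕ, (⊤ : Submodule A H) ≤ LinearMap.range π ⊔ maximalIdeal A ^ i • ⊤ := by
      intro i
      induction i with
      | zero => rw [pow_zero, Ideal.one_eq_top, Submodule.top_smul]; exact le_sup_right
      | succ i ih =>
        refine hstep.trans (sup_le le_sup_left ?_)
        refine (Submodule.smul_mono le_rfl ih).trans ?_
        rw [Submodule.smul_sup, ← Submodule.mul_smul, ← pow_succ']
        exact sup_le_sup_right Submodule.smul_le_right _
    obtain ⟨N, hN⟩ : IsNilpotent (maximalIdeal A) := by
      rw [← IsLocalRing.jacobson_eq_maximalIdeal ⊥ bot_ne_top]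
      exact IsArtinianRing.isNilpotent_jacobson_bot
    refine top_le_iff.mp ((hiter N).trans ?_)
    rw [hN, Submodule.zero_eq_bot, Submodule.bot_smul]
    exact sup_le le_rfl bot_le
  have hinj : Function.Injective π := by
    rw [← LinearMap.ker_eq_bot]
    by_contra hne
    have hlt := Submodule.length_quotient_lt (LinearMap.ker π) hne
    rw [(LinearMap.quotKerEquivOfSurjective π hπ).length_eq, ← eA.length_eq, Module.length_pi,
      ENat.card_eq_coe_fintype_card, Fintype.card_fin, hn] at hlt
    exact absurd hj (ne_of_lt hlt)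
  have hflat : Module.Flat A ((CohIII.TFun P p).obj (ModuleCat.of A A)) :=
    Module.Flat.of_linearEquiv (LinearEquiv.trans (σ₁₂ := RingHom.id A) (σ₂₁ := RingHom.id A) eA
      (LinearEquiv.ofBijective π ⟨hinj, hπ⟩).symm)
  exact ⟨hsurj, (preservesMono_iff_flat_self P hP hepi).mpr hflat, hepi, hflat⟩

omit [IsLocalRing A] [IsArtinianRing A] hP in
/-- Exactness is additivity of lengths. -/
theorem length_T_eq [IsLocalRing A] (hP : ∀ i, Module.Flat A (P.X i))
    (hex : (CohIII.TFun P p).PreservesMonomorphisms ∧ (CohIII.TFun P p).PreservesEpimorphisms)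
    (M : Type u) [AddCommGroup M] [Module A M] (hM : IsFiniteLength A M) :
    Module.length A (CohIII.T P p (ModuleCat.of A M)) =
      Module.length A (CohIII.T P p (ModuleCat.of A (ResidueField A))) * Module.length A M := by
  induction hM with
  | @of_subsingleton N _ _ _ =>
    obtain ⟨ι, hinj, -, -⟩ := exists_toCok P (rfl : p + 1 = p + 1) (sub_add_cancel p 1)
    have : Subsingleton (Cok P (p + 1) p ⊗[A] N) := inferInstance
    have : Subsingleton (CohIII.T P p (ModuleCat.of A N)) :=
      (hinj (ModuleCat.of A N)).subsingleton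
    rw [Module.length_eq_zero (M := CohIII.T P p (ModuleCat.of A N)),
      Module.length_eq_zero (M := N), mul_zero]
  | @of_simple_quotient N _ _ S hS _ ih =>
    let f : ModuleCat.of A S ⟶ ModuleCat.of A N := ModuleCat.ofHom S.subtype
    let g : ModuleCat.of A N ⟶ ModuleCat.of A (N ⧸ S) := ModuleCat.ofHom S.mkQ
    have he := exact_map_middle P hP p f g (Submodule.injective_subtype S)
      (Submodule.mkQ_surjective S) (LinearMap.exact_subtype_mkQ S)
    have hinj := (preservesMono_iff P p).mp hex.1 f (Submodule.injective_subtype S)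
    have hsurj := (preservesEpi_iff P p).mp hex.2 g (Submodule.mkQ_surjective S)
    refine (Module.length_eq_add_of_exact ((CohIII.TFun P p).map f).hom ((CohIII.TFun P p).map g).hom
      hinj hsurj he).trans ?_
    rw [Module.length_eq_add_of_exact S.subtype S.mkQ (Submodule.injective_subtype S)
      (Submodule.mkQ_surjective S) (LinearMap.exact_subtype_mkQ S), mul_add]
    refine congrArg₂ (· + ·) ih ?_
    obtain ⟨I, hI, ⟨e⟩⟩ := (isSimpleModule_iff_quot_maximal (R := A) (M := N ⧸ S)).mp hS
    obtain rfl : I = maximalIdeal A := IsLocalRing.eq_maximalIdeal hI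
    rw [Module.length_eq_one_iff.mpr hS, mul_one]
    exact ((CohIII.TFun P p).mapIso
      (X := ModuleCat.of A (N ⧸ S)) (Y := ModuleCat.of A (ResidueField A))
      e.toModuleIso).toLinearEquiv.length_eq

end Groth.Agent.FlatComplex
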