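import Groth.Agent.FlatComplex.Rank
import Mathlib.Algebra.Category.ModuleCat.Descent
import Mathlib.CategoryTheory.Abelian.Exact

/-!
# Fibre ranks under base change
-/

universe u

open CategoryTheory CategoryTheory.Limits TensorProduct

namespace Groth.Agent.FlatComplex

lemma exists_extendScalarsEquiv {K L : Type u} [CommRing K] [CommRing L] (ψ : K →+* L)
    (H : ModuleCat.{u} K) :
    letI := ψ.toAlgebra
    Nonempty ((L ⊗[K] H) ≃ₗ[L] (ModuleCat.extendScalars ψ).obj H) := by
  letI : Algebra K L := ψ.toAlgebra
  refine ⟨{ AddEquiv.refl (L ⊗[K] H) with map_smul' := fun c x => ?_ }⟩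
  induction x using TensorProduct.induction_on with
  | zero => exact (congrArg (AddEquiv.refl (L ⊗[K] H)) (smul_zero c)).trans (by exact (@smul_zero L ((ModuleCat.extendScalars ψ).obj H) _ (inferInstance : DistribSMul L ((ModuleCat.extendScalars ψ).obj H)).toSMulZeroClass c).symm)
  | tmul b n => rfl
  | add x y hx hy =>
    exact (smul_add c x y).trans ((congrArg₂ (· + ·) hx hy).trans (smul_add c x y).symm)

lemma finrank_extendScalars {K L : Type u} [Field K] [Field L] (ψ : K →+* L) (H : ModuleCat.{u} K) :
    Module.finrank L ((ModuleCat.extendScalars ψ).obj H) = Module.finrank K H := by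
  let _ : Algebra K L := ψ.toAlgebra
  obtain ⟨e⟩ := exists_extendScalarsEquiv ψ H
  rw [← e.finrank_eq, Module.finrank_baseChange]

lemma finrank_homology_extendScalars {K L : Type u} [Field K] [Field L] (ψ : K →+* L)
    {ι : Type} {c : ComplexShape ι} (Q : HomologicalComplex (ModuleCat.{u} K) c) (j : ι) :
    Module.finrank L ((CohIII.bcCx ψ Q).homology j) = Module.finrank K (Q.homology j) := by
  let F := ModuleCat.extendScalars.{u, u, u} ψ
  have hflat : ψ.Flat := by
    let _ : Algebra K L := ψ.toAlgebra
    change Module.Flat K L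
    infer_instance
  have := ModuleCat.preservesFiniteLimits_extendScalars_of_flat hflat
  have : PreservesFiniteColimits F :=
    have := (ModuleCat.extendRestrictScalarsAdj ψ).leftAdjoint_preservesColimits
    inferInstance
  have : F.PreservesHomology := inferInstance
  exact (((Q.sc j).mapHomologyIso F).toLinearEquiv).finrank_eq.trans
    (finrank_extendScalars ψ (Q.homology j))

variable {A A' : Type u} [CommRing A] [CommRing A'] [Algebra A A']

theorem dRank_bcCx (P : ChainComplex (ModuleCat.{u} A) ℤ) (p : ℤ) (x' : PrimeSpectrum A') :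
    CohIII.dRank (CohIII.bcCx (algebraMap A A') P) p x' =
      CohIII.dRank P p (PrimeSpectrum.comap (algebraMap A A') x') := by
  let x := PrimeSpectrum.comap (algebraMap A A') x'
  let ψ := Ideal.ResidueField.map x.asIdeal x'.asIdeal (algebraMap A A') rfl
  have h : ψ.comp (algebraMap A x.asIdeal.ResidueField) =
      (algebraMap A' x'.asIdeal.ResidueField).comp (algebraMap A A') :=
    RingHom.ext fun r => Ideal.ResidueField.map_algebraMap _ _ _ _ r
  refine Eq.trans ?_ (finrank_homology_extendScalars ψ
    (CohIII.bcCx (algebraMap A x.asIdeal.ResidueField) P) p)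
  let e₁ := (Functor.mapHomologicalComplexCompIso
    (ModuleCat.extendScalarsComp (algebraMap A A') (algebraMap A' x'.asIdeal.ResidueField)).symm
    (ComplexShape.down ℤ)).app P
  let e₂ := (Functor.mapHomologicalComplexCompIso
    (ModuleCat.extendScalarsComp (algebraMap A x.asIdeal.ResidueField) ψ).symm
    (ComplexShape.down ℤ)).app P
  have e₃ : Nonempty (CohIII.bcCx ((algebraMap A' x'.asIdeal.ResidueField).comp (algebraMap A A')) P ≅
      CohIII.bcCx (ψ.comp (algebraMap A x.asIdeal.ResidueField)) P) := by
    rw [h]; exact ⟨Iso.refl _⟩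
  obtain ⟨e₃⟩ := e₃
  exact ((HomologicalComplex.homologyFunctor _ _ p).mapIso
    (e₁ ≪≫ e₃ ≪≫ e₂.symm)).toLinearEquiv.finrank_eq

end Groth.Agent.FlatComplex
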