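import Groth.Agent.FlatComplex.Elementwise
import Mathlib.RingTheory.Spectrum.Prime.FreeLocus
import Mathlib.RingTheory.LocalRing.Module
import Mathlib.LinearAlgebra.TensorProduct.RightExactness
import Mathlib.LinearAlgebra.FiniteDimensional.Lemmas
import Mathlib.Topology.Semicontinuity.Basic

/-!
# Ranks of homology on the fibres
-/

universe u

open CategoryTheory CategoryTheory.Limits TensorProduct

namespace Groth.Agent.FlatComplex

section Field

variable {K : Type u} [Field K]

/-- Over a field, `dim H + dim V' = dim coker f + dim coker g`. -/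
lemma finrank_homology_add (S : ShortComplex (ModuleCat.{u} K)) [Module.Finite K S.X₂]
    [Module.Finite K S.X₃] :
    Module.finrank K S.homology + Module.finrank K S.X₃ =
      Module.finrank K (S.X₂ ⧸ LinearMap.range S.f.hom) +
        Module.finrank K (S.X₃ ⧸ LinearMap.range S.g.hom) := by
  have e : S.homology ≃ₗ[K] (LinearMap.ker S.g.hom ⧸ LinearMap.range S.moduleCatToCycles) :=
    S.moduleCatHomologyIso.toLinearEquiv
  rw [e.finrank_eq]
  have h1 := (LinearMap.range S.moduleCatToCycles).finrank_quotient_add_finrank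
  have h2 := (LinearMap.range S.f.hom).finrank_quotient_add_finrank
  have h3 := (LinearMap.range S.g.hom).finrank_quotient_add_finrank
  have h4 := S.g.hom.finrank_range_add_finrank_ker
  have h5 : Module.finrank K (LinearMap.range S.moduleCatToCycles) =
      Module.finrank K (LinearMap.range S.f.hom) := by
    have := LinearEquiv.finrank_eq (Submodule.equivMapOfInjective _
      (Submodule.injective_subtype (LinearMap.ker S.g.hom)) (LinearMap.range S.moduleCatToCycles))
    rw [this, ← LinearMap.range_comp]
    rfl
  omega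

end Field

variable {A : Type u} [CommRing A]

/-- The dimension of the fibre of a module at a prime. -/
noncomputable def fiberDim (C : Type u) [AddCommGroup C] [Module A C] (x : PrimeSpectrum A) : ℕ :=
  Module.finrank x.asIdeal.ResidueField (x.asIdeal.ResidueField ⊗[A] C)

lemma fiberDim_eq_rankAtStalk (F : Type u) [AddCommGroup F] [Module A F] [Module.Finite A F]
    [Module.Flat A F] (x : PrimeSpectrum A) : fiberDim F x = Module.rankAtStalk (R := A) F x :=
  (Module.rankAtStalk_eq x).symm

/-- The cokernel of a base change. -/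
lemma finrank_baseChange_quotient {F G : Type u} [AddCommGroup F] [Module A F] [AddCommGroup G]
    [Module A G] (f : F →ₗ[A] G) (K : Type u) [CommRing K] [Algebra A K] :
    Module.finrank K ((K ⊗[A] G) ⧸ LinearMap.range (f.baseChange K)) =
      Module.finrank K (K ⊗[A] (G ⧸ LinearMap.range f)) := by
  have hex := lTensor_exact K (LinearMap.exact_map_mkQ_range f) (Submodule.mkQ_surjective _)
  have hker : LinearMap.range (f.baseChange K) =
      LinearMap.ker ((LinearMap.range f).mkQ.baseChange K) := by
    ext z
    exact ((hex z).symm : _)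
  have hsurj : Function.Surjective ((LinearMap.range f).mkQ.baseChange K) :=
    LinearMap.lTensor_surjective K (Submodule.mkQ_surjective _)
  exact ((Submodule.quotEquivOfEq _ _ hker).trans
    (LinearMap.quotKerEquivOfSurjective _ hsurj)).finrank_eq

variable (P : ChainComplex (ModuleCat.{u} A) ℤ)

/-- `extendScalars` is the tensor product, compatibly with the differentials. -/
lemma exists_bcEquiv (K : Type u) [CommRing K] (φ : A →+* K) :
    letI := φ.toAlgebra
    ∃ e : ∀ i : ℤ, (K ⊗[A] P.X i) ≃ₗ[K] (CohIII.bcCx φ P).X i,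
      ∀ i i' (x : K ⊗[A] P.X i), ((CohIII.bcCx φ P).d i i').hom (e i x) =
        e i' ((P.d i i').hom.baseChange K x) := by
  letI : Algebra A K := φ.toAlgebra
  have key : ∀ i : ℤ, ∃ e : (K ⊗[A] P.X i) ≃ₗ[K] (CohIII.bcCx φ P).X i, ∀ x, e x = x := fun i => by
    refine ⟨{ AddEquiv.refl (K ⊗[A] P.X i) with map_smul' := fun c x => ?_ }, fun x => rfl⟩
    induction x using TensorProduct.induction_on with
    | zero => exact (congrArg (AddEquiv.refl (K ⊗[A] P.X i)) (smul_zero c)).trans (by exact (@smul_zero K ((CohIII.bcCx φ P).X i) _ (inferInstance : DistribSMul K ((CohIII.bcCx φ P).X i)).toSMulZeroClass c).symm)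
    | tmul b n => rfl
    | add x y hx hy =>
      exact (smul_add c x y).trans ((congrArg₂ (· + ·) hx hy).trans (smul_add c x y).symm)
  choose e he using key
  refine ⟨e, fun i i' x => ?_⟩
  rw [he, he]
  rfl

lemma bc_homology_add (K : Type u) [Field K] [inst : Algebra A K] (φ : A →+* K)
    (hφ : algebraMap A K = φ) {j : ℤ} (hj' : Module.Finite A (P.X j))
    (hk' : Module.Finite A (P.X ((ComplexShape.down ℤ).next j))) :
    Module.finrank K ((CohIII.bcCx φ P).homology j) +
        Module.finrank K (K ⊗[A] P.X ((ComplexShape.down ℤ).next j)) =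
      Module.finrank K (K ⊗[A] Cok P ((ComplexShape.down ℤ).prev j) j) +
        Module.finrank K (K ⊗[A] Cok P j ((ComplexShape.down ℤ).next j)) := by
  obtain rfl : inst = φ.toAlgebra := Algebra.algebra_ext _ _ fun a => by rw [hφ]; rfl
  letI : Algebra A K := φ.toAlgebra
  obtain ⟨e, hcomm⟩ := exists_bcEquiv P K φ
  have hrange : ∀ i i', (LinearMap.range ((P.d i i').hom.baseChange K)).map
      ((e i' : (K ⊗[A] P.X i') →ₗ[K] (CohIII.bcCx φ P).X i')) =
      LinearMap.range ((CohIII.bcCx φ P).d i i').hom := fun i i' => by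
    ext z
    constructor
    · rintro ⟨_, ⟨w, rfl⟩, rfl⟩
      exact ⟨e i w, hcomm i i' w⟩
    · rintro ⟨w, rfl⟩
      obtain ⟨w, rfl⟩ := (e i).surjective w
      exact ⟨_, ⟨w, rfl⟩, (hcomm i i' w).symm⟩
  let S := (CohIII.bcCx φ P).sc j
  have : Module.Finite K S.X₂ := Module.Finite.equiv (e j)
  have : Module.Finite K S.X₃ := Module.Finite.equiv (e _)
  refine (congrArg₂ (· + ·) rfl (e _).finrank_eq).trans ((finrank_homology_add S).trans ?_)
  refine congrArg₂ (· + ·) ?_ ?_
  · exact ((Submodule.Quotient.equiv _ _ (e j) (hrange _ _)).finrank_eq).symm.trans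
      (finrank_baseChange_quotient _ K)
  · exact ((Submodule.Quotient.equiv _ _ (e _) (hrange _ _)).finrank_eq).symm.trans
      (finrank_baseChange_quotient _ K)

theorem dRank_add {i j k : ℤ} (hi : j + 1 = i) (hk : k + 1 = j) (hj' : Module.Finite A (P.X j))
    (hk' : Module.Finite A (P.X k)) (x : PrimeSpectrum A) :
    CohIII.dRank P j x + fiberDim (P.X k) x =
      fiberDim (Cok P i j) x + fiberDim (Cok P j k) x := by
  obtain rfl : (ComplexShape.down ℤ).prev j = i := ComplexShape.prev_eq' _ hi
  obtain rfl : (ComplexShape.down ℤ).next j = k := ComplexShape.next_eq' _ hk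
  exact bc_homology_add P x.asIdeal.ResidueField _ rfl hj' hk'

/-- Fibre dimensions of finite modules are upper semicontinuous. -/
theorem exists_nhds_fiberDim_le (C : Type u) [AddCommGroup C] [Module A C] [Module.Finite A C]
    (x : PrimeSpectrum A) : ∃ U : Set (PrimeSpectrum A), IsOpen U ∧ x ∈ U ∧
      ∀ y ∈ U, fiberDim C y ≤ fiberDim C x := by
  classical
  let K := x.asIdeal.ResidueField
  obtain ⟨s, hs⟩ := Module.Finite.fg_top (R := A) (M := C)
  have hspan : Submodule.span K ((fun c => (1 : K) ⊗ₜ[A] c) '' (s : Set C)) = ⊤ := by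
    have h : (⊤ : Submodule A C).baseChange K = Submodule.span K ((fun c => (1 : K) ⊗ₜ[A] c) '' (s : Set C)) := by
      rw [← hs, Submodule.baseChange_span]
      rfl
    rw [← h, Submodule.baseChange_top]
  obtain ⟨b, hbs, hbspan, hbind⟩ := exists_linearIndependent K ((fun c => (1 : K) ⊗ₜ[A] c) '' (s : Set C))
  rw [hspan] at hbspan
  have hbfin : b.Finite := (s.finite_toSet.image _).subset hbs
  choose v _ hv using fun z : b => hbs z.2
  let N : Submodule A C := Submodule.span A (Set.range v)
  have hcard : fiberDim C x = hbfin.toFinset.card := by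
    have hfin : Fintype b := hbfin.fintype
    have B : Module.Basis b K (K ⊗[A] C) := Module.Basis.mk hbind (by rw [Subtype.range_coe, hbspan])
    rw [fiberDim, Module.finrank_eq_card_basis B, hbfin.card_toFinset]
  refine ⟨(Module.support A (C ⧸ N))ᶜ, Module.isClosed_support.isOpen_compl, ?_, fun y hy => ?_⟩
  · rw [Set.mem_compl_iff, Module.mem_support_iff_nontrivial_residueField_tensorProduct,
      not_nontrivial_iff_subsingleton]
    refine subsingleton_of_forall_eq 0 fun z => ?_
    obtain ⟨w, rfl⟩ := LinearMap.lTensor_surjective K (Submodule.mkQ_surjective N) z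
    have hw : w ∈ Submodule.span K b := hbspan ▸ Submodule.mem_top
    change N.mkQ.baseChange K w = 0
    induction hw using Submodule.span_induction with
    | mem z hz =>
      rw [show z = (1 : K) ⊗ₜ[A] v ⟨z, hz⟩ from (hv ⟨z, hz⟩).symm, LinearMap.baseChange_tmul,
        Submodule.mkQ_apply,
        (Submodule.Quotient.mk_eq_zero N).mpr (Submodule.subset_span (Set.mem_range_self _)),
        tmul_zero]
    | zero => rw [map_zero]
    | add a b _ _ ha hb => rw [map_add, ha, hb, add_zero]
    | smul r a _ ha => rw [map_smul, ha, smul_zero]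
  · let L := y.asIdeal.ResidueField
    rw [Set.mem_compl_iff, Module.mem_support_iff_nontrivial_residueField_tensorProduct,
      not_nontrivial_iff_subsingleton] at hy
    have hfin : Fintype b := hbfin.fintype
    have hsurj : Function.Surjective (N.subtype.baseChange L) := by
      intro w
      exact ((lTensor_exact L (LinearMap.exact_subtype_mkQ N) (Submodule.mkQ_surjective N)) w).mp
        (Subsingleton.elim _ _)
    have htop : Submodule.span L (Set.range fun z : b => (1 : L) ⊗ₜ[A] v z) = ⊤ := by
      rw [eq_top_iff, ← LinearMap.range_eq_top.mpr hsurj]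
      rintro _ ⟨w, rfl⟩
      induction w using TensorProduct.induction_on with
      | zero => rw [map_zero]; exact zero_mem _
      | tmul l n =>
        obtain ⟨n, hn⟩ := n
        rw [LinearMap.baseChange_tmul, ← mul_one l, ← smul_eq_mul, ← TensorProduct.smul_tmul']
        refine Submodule.smul_mem _ l ?_
        change (1 : L) ⊗ₜ[A] n ∈ _
        induction hn using Submodule.span_induction with
        | mem z hz =>
          obtain ⟨z, rfl⟩ := hz
          exact Submodule.subset_span ⟨z, rfl⟩
        | zero => rw [tmul_zero]; exact zero_mem _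
        | add a b _ _ ha hb => rw [tmul_add]; exact add_mem ha hb
        | smul r a _ ha =>
          rw [tmul_smul]
          exact Submodule.smul_of_tower_mem _ r ha
      | add a b ha hb => rw [map_add]; exact add_mem ha hb
    rw [hcard, hbfin.card_toFinset, fiberDim]
    have := finrank_range_le_card (R := L) (fun z : b => (1 : L) ⊗ₜ[A] v z)
    rwa [Set.finrank, htop, finrank_top] at this

lemma finite_cok (i j : ℤ) [Module.Finite A (P.X j)] : Module.Finite A (Cok P i j) := inferInstance

theorem upperSemicontinuous_dRank [IsNoetherianRing A]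
    (hP : ∀ i, Module.Finite A (P.X i) ∧ Module.Flat A (P.X i)) (p : ℤ) :
    UpperSemicontinuous (CohIII.dRank P p) := by
  have := fun i => (hP i).1
  have := fun i => (hP i).2
  have : Module.FinitePresentation A (P.X (p - 1)) := Module.finitePresentation_of_finite _ _
  refine upperSemicontinuous_iff_isOpen_preimage.mpr fun n => isOpen_iff_forall_mem_open.mpr
    fun x hx => ?_
  obtain ⟨U, hU, hxU, hUle⟩ := exists_nhds_fiberDim_le (Cok P (p + 1) p) x
  obtain ⟨V, hV, hxV, hVle⟩ := exists_nhds_fiberDim_le (Cok P p (p - 1)) x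
  refine ⟨U ∩ V ∩ {y | Module.rankAtStalk (R := A) (P.X (p - 1)) y =
    Module.rankAtStalk (R := A) (P.X (p - 1)) x}, fun y ⟨⟨hyU, hyV⟩, hy⟩ => ?_,
    (hU.inter hV).inter (Module.isLocallyConstant_rankAtStalk.isOpen_fiber _), ⟨⟨hxU, hxV⟩, rfl⟩⟩
  have e1 := dRank_add P (rfl : p + 1 = p + 1) (sub_add_cancel p 1) (hP p).1 (hP _).1 y
  have e2 := dRank_add P (rfl : p + 1 = p + 1) (sub_add_cancel p 1) (hP p).1 (hP _).1 x
  rw [fiberDim_eq_rankAtStalk (P.X (p - 1))] at e1 e2
  have h1 := hUle y hyU
  have h2 := hVle y hyV
  have h3 : CohIII.dRank P p x < n := hx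
  change CohIII.dRank P p y < n
  change Module.rankAtStalk (R := A) (P.X (p - 1)) y = _ at hy
  omega

end Groth.Agent.FlatComplex
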