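import Groth.Agent.FlatComplex.Elementwise
import Mathlib.RingTheory.Flat.Basic
import Mathlib.RingTheory.LocalRing.Module
import Mathlib.LinearAlgebra.TensorProduct.RightExactness

/-!
# Exactness of `M ↦ H_p(P ⊗ M)` for complexes of flat modules
-/

universe u

open CategoryTheory CategoryTheory.Limits TensorProduct

namespace Groth.Agent.FlatComplex

variable {A : Type u} [CommRing A] (P : ChainComplex (ModuleCat.{u} A) ℤ)

lemma lT_dT {M N : Type u} [AddCommGroup M] [Module A M] [AddCommGroup N] [Module A N]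
    (g : M →ₗ[A] N) (i j : ℤ) (x : P.X i ⊗[A] M) :
    g.lTensor (P.X j) (dT P M i j x) = dT P N i j (g.lTensor (P.X i) x) := by
  rw [← LinearMap.comp_apply, ← LinearMap.comp_apply, LinearMap.lTensor_comp_rTensor,
    LinearMap.rTensor_comp_lTensor]

lemma mem_range_dT_iff (M : Type u) [AddCommGroup M] [Module A M] (i j : ℤ) (x : P.X j ⊗[A] M) :
    (∃ w, x = dT P M i j w) ↔ (LinearMap.range (P.d i j).hom).mkQ.rTensor M x = 0 := by
  rw [(rTensor_exact M (LinearMap.exact_map_mkQ_range (P.d i j).hom)
    (Submodule.mkQ_surjective _)) x]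
  exact ⟨fun ⟨w, hw⟩ => ⟨w, hw.symm⟩, fun ⟨w, hw⟩ => ⟨w, hw.symm⟩⟩

/-- `T_p` preserves monomorphisms iff the opcycles in degree `p` are flat. -/
theorem preservesMono_iff_flat {p q : ℤ} (hpq : p + 1 = q) (h0 : Module.Flat A (P.X (p - 1))) :
    (CohIII.TFun P p).PreservesMonomorphisms ↔ Module.Flat A (Cok P q p) := by
  rw [preservesMono_iff, Module.Flat.iff_lTensor_preserves_injective_linearMap]
  constructor
  · intro h M N _ _ _ _ f hf
    refine (injective_iff_map_eq_zero _).mpr fun c hc => ?_
    obtain ⟨x, rfl⟩ := LinearMap.rTensor_surjective M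
      (Submodule.mkQ_surjective (LinearMap.range (P.d q p).hom)) c
    rw [← LinearMap.comp_apply, LinearMap.lTensor_comp_rTensor, ← LinearMap.rTensor_comp_lTensor,
      LinearMap.comp_apply, ← mem_range_dT_iff] at hc
    have h' := (map_injective_iff P hpq (sub_add_cancel p 1) (ModuleCat.ofHom f)).mp
      (h (ModuleCat.ofHom f) hf)
    rw [← mem_range_dT_iff]
    refine h' x (Module.Flat.lTensor_preserves_injective_linearMap (M := P.X (p - 1)) f hf ?_) hc
    obtain ⟨w, hw⟩ := hc
    rw [lT_dT, hw, dT_comp_dT, map_zero]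
  · intro h M N g hg
    rw [map_injective_iff P hpq (sub_add_cancel p 1)]
    intro x _ hw
    rw [mem_range_dT_iff] at hw ⊢
    refine h g.hom hg ?_
    rw [← LinearMap.comp_apply, LinearMap.lTensor_comp_rTensor, ← LinearMap.rTensor_comp_lTensor,
      LinearMap.comp_apply, hw, map_zero]

/-- `T_p` preserves epimorphisms iff the opcycles in degree `p - 1` are flat. -/
theorem preservesEpi_iff_flat {p r : ℤ} (hr : r + 1 = p) (h0 : Module.Flat A (P.X r))
    (h1 : Module.Flat A (P.X (r - 1))) :
    (CohIII.TFun P p).PreservesEpimorphisms ↔ Module.Flat A (Cok P p r) := by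
  rw [← preservesMono_iff_flat P hr h1, preservesMono_iff, preservesEpi_iff]
  constructor
  · intro h M N g hg
    rw [map_injective_iff P hr (sub_add_cancel r 1)]
    intro x _ hw
    obtain ⟨y, hy⟩ := hw
    let π : N ⟶ ModuleCat.of A (N ⧸ LinearMap.range g.hom) :=
      ModuleCat.ofHom (LinearMap.range g.hom).mkQ
    have h' := (map_surjective_iff P rfl hr π).mp (h π (Submodule.mkQ_surjective _))
    have hcomp : ∀ z : P.X r ⊗[A] M,
        π.hom.lTensor (P.X r) (g.hom.lTensor (P.X r) z) = 0 := fun z => by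
      rw [← LinearMap.comp_apply, ← LinearMap.lTensor_comp, show π.hom ∘ₗ g.hom = 0 from
        LinearMap.range_mkQ_comp g.hom]
      simp
    obtain ⟨c, hc, w, hw⟩ := h' (π.hom.lTensor (P.X p) y) (by rw [← lT_dT, ← hy]; exact hcomp x)
    obtain ⟨w', rfl⟩ := LinearMap.lTensor_surjective (P.X (p + 1))
      (Submodule.mkQ_surjective (LinearMap.range g.hom)) w
    have hex := lTensor_exact (P.X p) (LinearMap.exact_map_mkQ_range g.hom)
      (Submodule.mkQ_surjective _)
    obtain ⟨y', hy'⟩ := (hex (y - (c - dT P N (p + 1) p w'))).mp (by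
      change π.hom.lTensor (P.X p) _ = 0
      rw [map_sub, map_sub, lT_dT]
      change _ - (_ - dT P _ (p + 1) p ((LinearMap.range g.hom).mkQ.lTensor _ w')) = 0
      rw [← hw]
      abel)
    refine ⟨y', Module.Flat.lTensor_preserves_injective_linearMap (M := P.X r) g.hom hg ?_⟩
    rw [lT_dT, hy', map_sub, map_sub, hc, dT_comp_dT, hy]
    abel
  · intro h M N π hπ
    rw [map_surjective_iff P rfl hr]
    intro z hz
    obtain ⟨y, rfl⟩ := LinearMap.lTensor_surjective (P.X p) hπ z
    let g : ModuleCat.of A (LinearMap.ker π.hom) ⟶ M := ModuleCat.ofHom (LinearMap.ker π.hom).subtype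
    have hg : Function.Injective g := Submodule.injective_subtype _
    rw [← lT_dT] at hz
    obtain ⟨x, hx⟩ := (lTensor_exact (P.X r) (LinearMap.exact_subtype_ker_map π.hom) hπ _).mp hz
    have h' := (map_injective_iff P hr (sub_add_cancel r 1) g).mp (h g hg)
    obtain ⟨y', hy'⟩ := h' x
      (Module.Flat.lTensor_preserves_injective_linearMap (M := P.X (r - 1)) g.hom hg (by
        rw [lT_dT, map_zero]
        change dT P M r (r - 1) ((LinearMap.ker π.hom).subtype.lTensor (P.X r) x) = 0
        rw [hx, dT_comp_dT]))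
      ⟨y, hx⟩
    refine ⟨y - g.hom.lTensor (P.X p) y', ?_, 0, ?_⟩
    · rw [map_sub, ← lT_dT, ← hy']
      exact sub_eq_zero.mpr hx.symm
    · rw [map_sub, map_zero, sub_sub_cancel_left, ← LinearMap.comp_apply, ← LinearMap.lTensor_comp,
        show π.hom ∘ₗ g.hom = 0 from LinearMap.comp_ker_subtype π.hom]
      simp

open IsLocalRing in
/-- Over a local ring, lifting of cycles modulo the maximal ideal makes the cokernel free. -/
theorem free_of_surjective_residueField [IsLocalRing A] {p r : ℤ} (hr : r + 1 = p)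
    (h0 : Module.Finite A (P.X r)) (h0' : Module.Flat A (P.X r)) (h1 : Module.Finite A (P.X p))
    (hs : Function.Surjective ((CohIII.TFun P p).map
      (ModuleCat.ofHom (Algebra.linearMap A (ResidueField A))))) :
    Module.Free A (Cok P p r) := by
  have : Module.Free A (P.X r) := Module.free_of_flat_of_isLocalRing
  let d := (P.d p r).hom
  refine Module.free_of_lTensor_residueField_injective (LinearMap.range d).subtype
    (LinearMap.range d).mkQ (Submodule.mkQ_surjective _) (LinearMap.exact_subtype_mkQ _) ?_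
  refine (injective_iff_map_eq_zero _).mpr fun u hu => ?_
  obtain ⟨v, rfl⟩ := LinearMap.lTensor_surjective (ResidueField A) d.surjective_rangeRestrict u
  rw [← LinearMap.comp_apply, ← LinearMap.lTensor_comp] at hu
  change d.lTensor (ResidueField A) v = 0 at hu
  have hs' := (map_surjective_iff P rfl hr _).mp hs (TensorProduct.comm A _ _ v) (by
    change d.rTensor _ _ = 0
    rw [← LinearMap.comm_comp_lTensor_comp_comm_eq, LinearMap.comp_apply, LinearMap.comp_apply]
    simp only [LinearEquiv.coe_coe, TensorProduct.comm_comm, hu, map_zero])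
  obtain ⟨x, hx, w, hw⟩ := hs'
  obtain ⟨x0, rfl⟩ : ∃ x0, x0 ⊗ₜ[A] (1 : A) = x :=
    ⟨TensorProduct.rid A _ x, (TensorProduct.rid A (P.X p)).symm_apply_apply x⟩
  have hx0 : d x0 = 0 := by
    have := congrArg (TensorProduct.rid A (P.X r)) hx
    rw [map_zero, LinearMap.rTensor_tmul, TensorProduct.rid_tmul, one_smul] at this
    exact this
  let ρ := d.rangeRestrict.rTensor (ResidueField A)
  have hρw : ρ (dT P (ResidueField A) (p + 1) p w) = 0 := by
    change d.rangeRestrict.rTensor _ ((P.d (p + 1) p).hom.rTensor _ w) = 0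
    rw [← LinearMap.comp_apply, ← LinearMap.rTensor_comp,
      show d.rangeRestrict ∘ₗ (P.d (p + 1) p).hom = 0 from
        LinearMap.ext fun y => Subtype.ext (d_comp_d_apply P (p + 1) p r y)]
    simp
  have hρv : ρ (TensorProduct.comm A _ _ v) = 0 := by
    have := congrArg ρ hw
    rw [map_sub, hρw, sub_eq_zero] at this
    rw [← this]
    change d.rangeRestrict x0 ⊗ₜ[A] _ = 0
    rw [show d.rangeRestrict x0 = 0 from Subtype.ext hx0, zero_tmul]
  change d.rangeRestrict.rTensor _ _ = 0 at hρv
  rw [← LinearMap.comm_comp_lTensor_comp_comm_eq, LinearMap.comp_apply, LinearMap.comp_apply] at hρv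
  simp only [LinearEquiv.coe_coe, TensorProduct.comm_comm] at hρv
  exact (LinearEquiv.map_eq_zero_iff _).mp hρv

end Groth.Agent.FlatComplex
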