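import Groth.Agent.FlatComplex.Unit
import Groth.Agent.FlatComplex.BaseChange
import Groth.Agent.FlatComplex.Reduced
import Groth.Agent.FlatComplex.Length
import Groth.Agent.S2446
import Mathlib.RingTheory.Localization.Free

/-! Generic exactness for bounded below flat complexes, and finiteness of `T_q` on finite modules. -/

set_option synthInstance.maxHeartbeats 400000

universe u

open CategoryTheory CategoryTheory.Limits TensorProduct

namespace Groth.Agent.FlatComplex

variable {A : Type u} [CommRing A]

/-- Where `T_p` is right exact, the fibre rank is that of `T_p(A)`. -/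
theorem dRank_eq_fiberDim_of_epi (P : ChainComplex (ModuleCat.{u} A) ℤ) (hP : ∀ i, Module.Flat A (P.X i)) {p : ℤ}
    (h : (CohIII.TFun P p).PreservesEpimorphisms) (x : PrimeSpectrum A) :
    CohIII.dRank P p x = fiberDim (LinearMap.ker (dbar P (p + 1) p (p - 1))) x := by
  obtain ⟨iso⟩ := exists_iso_tensorLeft P hP h
  let H := LinearMap.ker (dbar P (p + 1) p (p - 1))
  obtain ⟨b⟩ := nonempty_bc_homology_iso P x.asIdeal.ResidueField p
  let e := (b ≪≫ iso.app (ModuleCat.of A x.asIdeal.ResidueField)).toLinearEquiv.trans
    (TensorProduct.comm A H x.asIdeal.ResidueField)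
  let f : ((CohIII.bcCx (algebraMap A x.asIdeal.ResidueField) P).homology p) ≃+ (x.asIdeal.ResidueField ⊗[A] H) :=
    e.toAddEquiv
  have hf : ∀ (a : A) v, f (algebraMap A x.asIdeal.ResidueField a • v) = algebraMap A x.asIdeal.ResidueField a • f v :=
    fun a v => (e.map_smul a v).trans (algebraMap_smul _ a _).symm
  let g : ((CohIII.bcCx (algebraMap A x.asIdeal.ResidueField) P).homology p) ≃ₗ[x.asIdeal.ResidueField]
      (x.asIdeal.ResidueField ⊗[A] H) :=
    { f with map_smul' := fun k v => residueField_linear x f.toAddMonoidHom hf k v }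
  exact g.finrank_eq

theorem flat_away_of_free (M : Type u) [AddCommGroup M] [Module A M] (g : A)
    (h : Module.Free (Localization (Submonoid.powers g)) (LocalizedModule.Away g M)) :
    Module.Flat (Localization.Away g) (Localization.Away g ⊗[A] M) :=
  @Module.Flat.of_linearEquiv _ _ _ _ _ _ _ _
    (@Module.Flat.of_free _ (LocalizedModule (Submonoid.powers g) M) _ _ _ h)
    (IsLocalizedModule.isBaseChange (Submonoid.powers g) (Localization (Submonoid.powers g))
      (LocalizedModule.mkLinearMap (Submonoid.powers g) M)).equiv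

/-- A single denominator makes all low `T_p` exact over a domain. -/
theorem exists_away_exact [IsDomain A] (P : ChainComplex (ModuleCat.{u} A) ℤ) (hP : ∀ i, Module.Flat A (P.X i))
    (i₀ : ℤ) (hb : ∀ i < i₀, IsZero (P.X i))
    (hfp : ∀ n : ℤ, Module.FinitePresentation A (P.homology n)) (N : ℤ) :
    ∃ f : A, f ≠ 0 ∧ ∀ p ≤ N,
      (CohIII.TFun (CohIII.bcCx (algebraMap A (Localization.Away f)) P) p).PreservesMonomorphisms ∧
        (CohIII.TFun (CohIII.bcCx (algebraMap A (Localization.Away f)) P) p).PreservesEpimorphisms := by
  classical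
  have hone : ∀ q : ℤ, ∃ g : A, g ≠ 0 ∧ Module.Flat (Localization.Away g) (Localization.Away g ⊗[A] P.homology q) := by
    intro q
    have := hfp q
    obtain ⟨g, hg, hfree, -⟩ := Module.FinitePresentation.exists_free_localizedModule_powers (nonZeroDivisors A)
      (LocalizedModule.mkLinearMap (nonZeroDivisors A) (P.homology q)) (FractionRing A)
    exact ⟨g, nonZeroDivisors.ne_zero hg, flat_away_of_free (P.homology q) g hfree⟩
  choose g hg0 hgflat using hone
  refine ⟨∏ q ∈ Finset.Icc i₀ N, g q, Finset.prod_ne_zero_iff.mpr fun q _ => hg0 q, ?_⟩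
  set f := ∏ q ∈ Finset.Icc i₀ N, g q
  let B := Localization.Away f
  have hfl : ∀ q ≤ N, Module.Flat B (B ⊗[A] P.homology q) := by
    intro q hq
    by_cases hq0 : q < i₀
    · have : Subsingleton (P.homology q) := ModuleCat.subsingleton_of_isZero
        ((HomologicalComplex.exactAt_iff_isZero_homology _ _).mp (ShortComplex.exact_of_isZero_X₂ _ (hb q hq0)))
      infer_instance
    · have hu : IsUnit (algebraMap A B (g q)) :=
        isUnit_of_dvd_unit (map_dvd _ (Finset.dvd_prod_of_mem g (Finset.mem_Icc.mpr ⟨by omega, hq⟩)))
          (IsLocalization.Away.algebraMap_isUnit f)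
      letI : Algebra (Localization.Away (g q)) B := (IsLocalization.Away.lift (g q) hu).toAlgebra
      haveI : IsScalarTower A (Localization.Away (g q)) B :=
        IsScalarTower.of_algebraMap_eq fun a => (IsLocalization.Away.lift_eq (g q) hu a).symm
      have := hgflat q
      exact Module.Flat.of_linearEquiv
        (TensorProduct.AlgebraTensorModule.cancelBaseChange A (Localization.Away (g q)) B B (P.homology q)).symm
  have hflatB : (algebraMap A B).Flat := by
    rw [RingHom.flat_algebraMap_iff]; exact IsLocalization.flat B (Submonoid.powers f)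
  let F := ModuleCat.extendScalars.{u, u, u} (algebraMap A B)
  have := ModuleCat.preservesFiniteLimits_extendScalars_of_flat hflatB
  have : PreservesFiniteColimits F :=
    have := (ModuleCat.extendRestrictScalarsAdj (algebraMap A B)).leftAdjoint_preservesColimits
    inferInstance
  have : F.PreservesHomology := inferInstance
  have hflX : ∀ i, Module.Flat B ((CohIII.bcCx (algebraMap A B) P).X i) := fun i => flat_bcCx_X P hP B (algebraMap A B) rfl i
  intro p hp
  refine (S2446.result (CohIII.bcCx (algebraMap A B) P) hflX i₀ (fun i hi => F.map_isZero (hb i hi)) N).mpr (fun q hq => ?_) p hp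
  obtain ⟨e⟩ := exists_extendScalarsEquiv (algebraMap A B) (P.homology q)
  obtain ⟨u⟩ := nonempty_T_unit_iso (CohIII.bcCx (algebraMap A B) P) q
  have hal : (algebraMap A B).toAlgebra = (inferInstance : Algebra A B) := Algebra.algebra_ext _ _ fun a => rfl
  rw [hal] at e
  have := hfl q hq
  exact Module.Flat.of_linearEquiv
    ((u ≪≫ (P.sc q).mapHomologyIso F).toLinearEquiv.trans e.symm)

/-- `T_q` of a finite module is finite, for a bounded below flat complex with finite homology. -/
theorem finite_T [IsNoetherianRing A] (P : ChainComplex (ModuleCat.{u} A) ℤ) (hP : ∀ i, Module.Flat A (P.X i))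
    (i₀ : ℤ) (hb : ∀ i < i₀, IsZero (P.X i))
    (hfg : ∀ n : ℤ, Module.Finite A (CohIII.T P n (ModuleCat.of A A))) :
    ∀ (n : ℕ) (q : ℤ), q < i₀ + n → ∀ (M : ModuleCat.{u} A) [Module.Finite A M], Module.Finite A (CohIII.T P q M) := by
  intro n
  induction n with
  | zero =>
    intro q hq M _
    have : Subsingleton (CohIII.T P q M) := ModuleCat.subsingleton_of_isZero
      ((HomologicalComplex.exactAt_iff_isZero_homology _ _).mp (ShortComplex.exact_of_isZero_X₂ _
        (Functor.map_isZero (MonoidalCategory.tensorRight M) (hb q (by omega)))))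
    infer_instance
  | succ n ih =>
    intro q hq
    have hmid : ∀ {M M' M'' : ModuleCat.{u} A} (f : M' ⟶ M) (g : M ⟶ M''), Function.Injective f → Function.Surjective g →
        Function.Exact f g → Module.Finite A (CohIII.T P q M') → Module.Finite A (CohIII.T P q M'') →
        Module.Finite A (CohIII.T P q M) := by
      intro M M' M'' f g hf hg he h1 h2
      haveI : Module.Finite A ((CohIII.TFun P q).obj M') := h1
      haveI : Module.Finite A ((CohIII.TFun P q).obj M'') := h2
      have h3 := exact_map_middle P hP q f g hf hg he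
      haveI := isNoetherian_of_range_eq_ker _ _
        (LinearMap.exact_iff.mp h3).symm
      exact Module.IsNoetherian.finite A ((CohIII.TFun P q).obj M)
    have hfree : ∀ k : ℕ, Module.Finite A (CohIII.T P q (ModuleCat.of A (Fin k → A))) := by
      intro k
      induction k with
      | zero =>
        have : Subsingleton (CohIII.T P q (ModuleCat.of A (Fin 0 → A))) := ModuleCat.subsingleton_of_isZero
          ((HomologicalComplex.exactAt_iff_isZero_homology _ _).mp (ShortComplex.exact_of_isZero_X₂ _
            (@ModuleCat.isZero_of_subsingleton _ _ ((CohIII.tensorObj P (ModuleCat.of A (Fin 0 → A))).X q) (inferInstanceAs (Subsingleton (P.X q ⊗[A] (Fin 0 → A)))))))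
        infer_instance
      | succ k ihk =>
        let e : ((Fin k → A) × A) ≃ₗ[A] (Fin (k + 1) → A) :=
          (LinearEquiv.prodComm A _ _).trans (Fin.consLinearEquiv A fun _ => A)
        refine hmid (M := ModuleCat.of A (Fin (k + 1) → A)) (ModuleCat.ofHom (e.toLinearMap ∘ₗ LinearMap.inl A (Fin k → A) A))
          (M'' := ModuleCat.of A A) (ModuleCat.ofHom (LinearMap.snd A (Fin k → A) A ∘ₗ e.symm.toLinearMap))
          (e.injective.comp LinearMap.inl_injective) (fun z => ⟨e ((0 : Fin k → A), z), by simp⟩) ?_ ihk (hfg q)
        intro y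
        obtain ⟨⟨a, b⟩, rfl⟩ := e.surjective y
        constructor
        · intro hy
          have hb' : b = 0 := by simpa using hy
          exact ⟨a, by simp [hb']⟩
        · rintro ⟨a', ha⟩
          have : ((a', 0) : (Fin k → A) × A) = (a, b) := e.injective ha
          simp [← (Prod.ext_iff.mp this).2]
    intro M _
    obtain ⟨k, π, hπ⟩ := Module.Finite.exists_fin' A M
    let K := LinearMap.ker π
    have : Module.Finite A K := Module.Finite.of_fg (IsNoetherian.noetherian K)
    have hex : ∀ i : ℤ, (ShortComplex.mk
        ((CohIII.tensorMap P (ModuleCat.ofHom K.subtype : ModuleCat.of A K ⟶ ModuleCat.of A (Fin k → A))).f i)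
        ((CohIII.tensorMap P (ModuleCat.ofHom π : ModuleCat.of A (Fin k → A) ⟶ M)).f i)
        (ModuleCat.hom_ext (LinearMap.ext fun z => (lTensor_exact (P.X i) (LinearMap.exact_subtype_ker_map π) hπ).apply_apply_eq_zero z))).ShortExact :=
      fun i => ModuleCat.shortComplex_shortExact _ (lTensor_exact (P.X i) (LinearMap.exact_subtype_ker_map π) hπ)
        (Module.Flat.lTensor_preserves_injective_linearMap (M := P.X i) K.subtype K.subtype_injective)
        (LinearMap.lTensor_surjective _ hπ)
    let S : ShortComplex (ChainComplex (ModuleCat.{u} A) ℤ) := ShortComplex.mk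
      (CohIII.tensorMap P (ModuleCat.ofHom K.subtype : ModuleCat.of A K ⟶ ModuleCat.of A (Fin k → A)))
      (CohIII.tensorMap P (ModuleCat.ofHom π : ModuleCat.of A (Fin k → A) ⟶ M))
      (HomologicalComplex.hom_ext _ _ fun i => (ShortComplex.mk _ _ (hex i |> fun _ => ModuleCat.hom_ext (LinearMap.ext fun z => (lTensor_exact (P.X i) (LinearMap.exact_subtype_ker_map π) hπ).apply_apply_eq_zero z))).zero)
    have hS : S.ShortExact := HomologicalComplex.shortExact_of_degreewise_shortExact _ hex
    have h3 := hS.homology_exact₃ q (q - 1) (sub_add_cancel q 1)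
    haveI : Module.Finite A (S.X₂.homology q) := hfree k
    haveI : Module.Finite A (S.X₁.homology (q - 1)) := ih (q - 1) (by omega) (ModuleCat.of A K)
    have h4 := ((ShortComplex.moduleCat_exact_iff_range_eq_ker _).mp h3)
    haveI : IsNoetherian A (S.X₃.homology q) := isNoetherian_of_range_eq_ker _ _ h4
    exact Module.IsNoetherian.finite A (S.X₃.homology q)

end Groth.Agent.FlatComplex
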